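import Groth.Agent.DualFlat.Global
import Groth.Agent.Goren.LCI
import Groth.Agent.Goren.Ring
import Groth.Agent.GeomProp.SmoothLocal
import Mathlib.RingTheory.KrullDimension.Polynomial

/-!
Applications of flat base change of dualizing complexes.
-/

set_option autoImplicit false
set_option linter.style.haveILetI false
set_option maxHeartbeats 1000000
universe u v

namespace Groth.Agent.DualFlat

open TensorProduct
open Groth.Agent.DualCx

attribute [local instance] HasDerivedCategory.standard

variable {A : Type u} [CommRing A] [IsNoetherianRing A]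
  (B : Type u) [CommRing B] [Algebra A B] [IsNoetherianRing B]

theorem gorFibres_of_fibres (h : ∀ (P : Ideal A) [P.IsPrime], LocCoh.IsGorensteinRing (P.Fiber B)) :
    GorFibres (A := A) B := fun n _ => by
  obtain ⟨Q, _, ⟨e⟩⟩ := FlatDepth.exists_fibre_equiv (A := A) n
  haveI := (h (n.comap (algebraMap A B))).isGorensteinLocalRing_localization Q
  exact Goren.isGorenstein_of_equiv (A := Localization.AtPrime Q) e

theorem dim_lt_top_finiteType [Algebra.FiniteType A B] (h : ringKrullDim A < ⊤) : ringKrullDim B < ⊤ := by
  obtain ⟨n, f, hf⟩ := Algebra.FiniteType.iff_quotient_mvPolynomial''.1 (inferInstance : Algebra.FiniteType A B)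
  refine (ringKrullDim_le_of_surjective f.toRingHom hf).trans_lt ?_
  rw [MvPolynomial.ringKrullDim_of_isNoetherianRing, Nat.card_fin]
  cases hd : ringKrullDim A with
  | bot => simp
  | coe d =>
    rw [hd] at h
    lift d to ℕ using (fun h' => by subst h'; exact lt_irrefl _ h)
    rw [show ((d : ℕ∞) : WithBot ℕ∞) + (n : WithBot ℕ∞) = (((d + n : ℕ) : ℕ∞) : WithBot ℕ∞) by push_cast; rfl]
    exact WithBot.coe_lt_coe.2 (ENat.natCast_lt_top (d + n))

variable [Module.Flat A B] [DRing.HasLBaseChange (algebraMap A B)] (K : Dual.D A)

theorem isDualizing_lBaseChange (hdim : ringKrullDim B < ⊤) (hG : GorFibres (A := A) B) (hK : Dual.IsDualizing A K) :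
    Dual.IsDualizing B ((DRing.LBaseChange (algebraMap A B)).obj K) :=
  DualCx.isDualizing_of_iso (lBaseChangeObjIso (algebraMap A B) K).symm (isDualizing_ascent B K hdim hG hK)

theorem isDualizing_lBaseChange_finiteType [Algebra.FiniteType A B] (hG : GorFibres (A := A) B)
    (hK : Dual.IsDualizing A K) : Dual.IsDualizing B ((DRing.LBaseChange (algebraMap A B)).obj K) :=
  isDualizing_lBaseChange B K (dim_lt_top_finiteType B (DualCx.ringKrullDim_lt_top hK)) hG hK

theorem isDualizing_of_lBaseChange [Module.FaithfullyFlat A B]
    (hK : Dual.IsDualizing B ((DRing.LBaseChange (algebraMap A B)).obj K)) : Dual.IsDualizing A K :=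
  isDualizing_descent B K (DualCx.isDualizing_of_iso (lBaseChangeObjIso (algebraMap A B) K) hK)

end Groth.Agent.DualFlat

namespace Groth.Agent.DualFlat

open TensorProduct IsLocalRing
open Groth.Agent.DualCx

attribute [local instance] HasDerivedCategory.standard

section Unramified

variable {A : Type u} [CommRing A] [IsNoetherianRing A]
  (B : Type u) [CommRing B] [Algebra A B] [IsNoetherianRing B]

theorem gorFibres_unramified
    (h : ∀ n : Ideal B, n.IsMaximal → (n.comap (algebraMap A B)).map (algebraMap A B) = n) :
    GorFibres (A := A) B := fun n hn => by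
  have he : (n.comap (algebraMap A B)).map (algebraMap A (Localization.AtPrime n)) =
      maximalIdeal (Localization.AtPrime n) := by
    rw [IsScalarTower.algebraMap_eq A B (Localization.AtPrime n), ← Ideal.map_map, h n hn,
      Localization.AtPrime.map_eq_maximalIdeal]
  haveI : ((n.comap (algebraMap A B)).map (algebraMap A (Localization.AtPrime n))).IsMaximal := he ▸ inferInstance
  letI : Field (Localization.AtPrime n ⧸ (n.comap (algebraMap A B)).map (algebraMap A (Localization.AtPrime n))) :=
    Ideal.Quotient.field _
  exact Goren.isGorenstein_of_regular _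

theorem dim_le_unramified (h : ∀ n : Ideal B, n.IsMaximal → (n.comap (algebraMap A B)).map (algebraMap A B) = n) :
    ringKrullDim B ≤ ringKrullDim A := by
  rw [ringKrullDim_le_iff_isMaximal_height_le]
  intro n hn
  haveI : n.LiesOver (n.comap (algebraMap A B)) := ⟨rfl⟩
  have h1 := Ideal.height_le_height_add_of_liesOver (n.comap (algebraMap A B)) n
  have h2 : n.map (Ideal.Quotient.mk ((n.comap (algebraMap A B)).map (algebraMap A B))) = ⊥ := by
    refine le_bot_iff.1 (Ideal.map_le_iff_le_comap.2 ?_)
    rw [← RingHom.ker, Ideal.mk_ker, h n hn]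
  haveI : Nontrivial (B ⧸ (n.comap (algebraMap A B)).map (algebraMap A B)) :=
    Ideal.Quotient.nontrivial_iff.2 (by rw [h n hn]; exact hn.ne_top)
  rw [h2, Ideal.height_bot, add_zero] at h1
  exact le_trans (WithBot.coe_le_coe.2 h1) (Ideal.height_le_ringKrullDim_of_ne_top (Ideal.IsPrime.ne_top inferInstance))

theorem isDualizing_lBaseChange_unramified [Module.Flat A B] [DRing.HasLBaseChange (algebraMap A B)] (K : Dual.D A)
    (h : ∀ n : Ideal B, n.IsMaximal → (n.comap (algebraMap A B)).map (algebraMap A B) = n)
    (hK : Dual.IsDualizing A K) : Dual.IsDualizing B ((DRing.LBaseChange (algebraMap A B)).obj K) :=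
  isDualizing_lBaseChange B K ((dim_le_unramified B h).trans_lt (DualCx.ringKrullDim_lt_top hK))
    (gorFibres_unramified B h) hK

end Unramified

end Groth.Agent.DualFlat
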