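import Groth.Agent.DualFlat.BaseT
import Groth.Agent.DRingKP.FlatBC

/-!
Flat base change of `Hom_D(M, K[i])` is bijective for finite modules `M`.
-/

set_option autoImplicit false
set_option linter.style.haveILetI false
set_option maxHeartbeats 1000000
universe u

namespace Groth.Agent.DualFlat

open CategoryTheory CategoryTheory.Limits DerivedCategory Pretriangulated TensorProduct
open Groth.Agent.DualCx

attribute [local instance] HasDerivedCategory.standard

noncomputable section

variable {A : Type u} [CommRing A] (B : Type u) [CommRing B] [Algebra A B] [Module.Flat A B] (K : Dual.D A)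

attribute [local instance] modA towerA

omit [Module.Flat A B] in
theorem exact_baseChange_surj {X Y : Type*} [AddCommGroup X] [Module A X] [AddCommGroup Y] [Module A Y]
    (e : X ≃ₗ[A] Y) : Function.Bijective (e.toLinearMap.baseChange B) :=
  (e.baseChange A B X Y).bijective

omit [Module.Flat A B] in
/-- the extension of scalars is the tensor product -/
def tens (X : Type u) [AddCommGroup X] [Module A X] : EM (A := A) B X ≃ₗ[B] B ⊗[A] X :=
  (DRingKP.extendTensorIso X).toLinearEquiv

omit [Module.Flat A B] in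
theorem map_tens_one {X Y : Type u} [AddCommGroup X] [Module A X] [AddCommGroup Y] [Module A Y] (f : X →ₗ[A] Y) (x : X) :
    Ef B f ((tens B X).symm ((1 : B) ⊗ₜ[A] x)) = (tens B Y).symm ((1 : B) ⊗ₜ[A] f x) := rfl

omit [Module.Flat A B] in
/-- `B ⊗ A = B` -/
def eEA : EM (A := A) B A ≃ₗ[B] B := (tens B A).trans (TensorProduct.AlgebraTensorModule.rid A B B)

theorem bT_bijective_self (i : ℤ) : Function.Bijective (bT B K A i) := by
  let HA := DerivedCategory.homologyFunctor (ModuleCat.{u} A) 0
  let HB := DerivedCategory.homologyFunctor (ModuleCat.{u} B) 0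
  let F := locD (algebraMap A B)
  let eA : HA.obj (K⟦i⟧) ≅ (DerivedCategory.homologyFunctor (ModuleCat.{u} A) i).obj K :=
    ((DerivedCategory.homologyFunctor (ModuleCat.{u} A) 0).shiftIso i 0 i (by lia)).app K
  let eB : HB.obj ((KB B K)⟦i⟧) ≅ (DerivedCategory.homologyFunctor (ModuleCat.{u} B) i).obj (KB B K) :=
    ((DerivedCategory.homologyFunctor (ModuleCat.{u} B) 0).shiftIso i 0 i (by lia)).app (KB B K)
  let β₀ : T (KB B K) (EM (A := A) B A) i ≃ₗ[B] Dual.HD B (KB B K) i :=
    (DualCx.congr (KB B K) i (eEA B).symm).trans (homEquiv (KB B K) i)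
  let sA := (DerivedCategory.singleFunctorCompHomologyFunctorIso (ModuleCat.{u} A) 0).inv.app (ModuleCat.of A A)
  let sB := (DerivedCategory.singleFunctorCompHomologyFunctorIso (ModuleCat.{u} B) 0).inv.app (ModuleCat.of B B)
  let v : (HB.obj (F.obj (Dual.inD A A)) : Type u) :=
    (HB.map ((DerivedCategory.singleFunctor (ModuleCat.{u} B) 0).map (ModuleCat.ofHom (eEA (A := A) B).symm.toLinearMap) ≫
      (locInD (algebraMap A B) A).inv)).hom (sB.hom (1 : B))
  let σ : B ≃ₗ[B] EM (A := A) B A :=
    (asIso sB ≪≫ HB.mapIso ((DerivedCategory.singleFunctor (ModuleCat.{u} B) 0).mapIso (eEA (A := A) B).symm.toModuleIso ≪≫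
      (locInD (algebraMap A B) A).symm) ≪≫ (θ (algebraMap A B) 0).app (Dual.inD A A) ≪≫
      (E B).mapIso (asIso sA).symm).toLinearEquiv
  let b0 : B := eEA (A := A) B (σ 1)
  have hb0 : IsUnit b0 := by
    let τ : B ≃ₗ[B] B := σ.trans (eEA B)
    refine IsUnit.of_mul_eq_one (τ.symm 1) ?_
    have h := τ.apply_symm_apply 1
    rw [show τ (τ.symm 1) = τ.symm 1 • τ 1 by rw [← map_smul, smul_eq_mul, mul_one]] at h
    rw [mul_comm]
    exact h
  let tH : B ⊗[A] Dual.HD A K i ≃ₗ[B] (E B).obj ((DerivedCategory.homologyFunctor (ModuleCat.{u} A) i).obj K) :=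
    (tens B (Dual.HD A K i)).symm
  let gen : EM (A := A) B A := (tens B A).symm ((1 : B) ⊗ₜ[A] (1 : A))
  have hgen : eEA (A := A) B gen = 1 := by simp [gen, eEA]
  have hθv : ((θ (algebraMap A B) 0).hom.app (Dual.inD A A)).hom v = b0 • ((E B).map sA).hom gen := by
    have h1 : σ 1 = b0 • gen := (eEA (A := A) B).injective (by
      rw [map_smul, hgen, smul_eq_mul, mul_one])
    have h2 : ((E B).map sA).hom (σ 1) = ((θ (algebraMap A B) 0).hom.app (Dual.inD A A)).hom v := by
      have h3 : σ 1 = ((E B).map (inv sA)).hom (((θ (algebraMap A B) 0).hom.app (Dual.inD A A)).hom v) := rfl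
      rw [h3, ← LinearMap.comp_apply, ← ModuleCat.hom_comp, ← Functor.map_comp, IsIso.inv_hom_id,
        CategoryTheory.Functor.map_id]
      rfl
    rw [← h2, h1, map_smul]
  let Φ : (E B).obj (HA.obj (K⟦i⟧)) ≅ (DerivedCategory.homologyFunctor (ModuleCat.{u} B) i).obj (KB B K) :=
    ((θ (algebraMap A B) 0).app (K⟦i⟧)).symm ≪≫ HB.mapIso ((F.commShiftIso i).app K) ≪≫ eB
  let g : B ⊗[A] T K A i →ₗ[B] Dual.HD B (KB B K) i :=
    b0 • (Φ.hom.hom ∘ₗ ((E B).map eA.inv).hom ∘ₗ tH.toLinearMap ∘ₗ (homEquiv K i).toLinearMap.baseChange B)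
  have hg : β₀.toLinearMap ∘ₗ bT B K A i = g := by
    suffices H : ∀ x : T K A i, β₀ (bT B K A i ((1 : B) ⊗ₜ[A] x)) = g ((1 : B) ⊗ₜ[A] x) by
      refine LinearMap.ext fun z => ?_
      induction z using TensorProduct.induction_on with
      | zero => rw [map_zero, map_zero]
      | add z w hz hw => rw [map_add, map_add, hz, hw]
      | tmul b x =>
        rw [show b ⊗ₜ[A] x = b • ((1 : B) ⊗ₜ[A] x) by rw [smul_tmul', smul_eq_mul, mul_one], map_smul, map_smul]
        exact congrArg (b • ·) (H x)
    intro x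
    change β₀ (bT B K A i ((1 : B) ⊗ₜ[A] x)) =
      b0 • Φ.hom.hom (((E B).map eA.inv).hom (tH ((1 : B) ⊗ₜ[A] (eA.hom.hom ((HA.map x).hom (sA.hom (1 : A)))))))
    rw [bT_one]
    change eB.hom.hom ((HB.map ((DerivedCategory.singleFunctor (ModuleCat.{u} B) 0).map
      (ModuleCat.ofHom (eEA (A := A) B).symm.toLinearMap) ≫ (locInD (algebraMap A B) A).inv ≫
        F.map x ≫ (F.commShiftIso i).hom.app K)).hom (sB.hom (1 : B))) = _
    rw [← Category.assoc, HB.map_comp, HB.map_comp (F.map x)]
    change eB.hom.hom ((HB.map ((F.commShiftIso i).hom.app K)).hom ((HB.map (F.map x)).hom v)) = _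
    have h3 : (HB.map (F.map x)).hom v =
        ((θ (algebraMap A B) 0).inv.app (K⟦i⟧)).hom (b0 • ((E B).map (HA.map x)).hom (((E B).map sA).hom gen)) := by
      rw [← map_smul ((E B).map (HA.map x)).hom, ← hθv]
      have h5 := θ_naturality (algebraMap A B) x 0
      rw [← Iso.app_hom (θ (algebraMap A B) 0) (K⟦i⟧), ← Iso.eq_comp_inv] at h5
      exact LinearMap.congr_fun (congrArg ModuleCat.Hom.hom h5) v
    rw [h3]
    have h6 : ((E B).map eA.inv).hom (tH ((1 : B) ⊗ₜ[A] (eA.hom.hom ((HA.map x).hom (sA.hom (1 : A)))))) =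
        ((E B).map (HA.map x)).hom (((E B).map sA).hom gen) := by
      have h7 : eA.inv.hom (eA.hom.hom ((HA.map x).hom (sA.hom (1 : A)))) = (HA.map x).hom (sA.hom (1 : A)) :=
        eA.toLinearEquiv.symm_apply_apply _
      refine Eq.trans ?_ ((congrArg ((E B).map (HA.map x)).hom (map_tens_one B sA.hom (1 : A))).trans
        (map_tens_one B (HA.map x).hom (sA.hom (1 : A)))).symm
      exact (map_tens_one B eA.inv.hom _).trans (congrArg (fun t => (tens B _).symm ((1 : B) ⊗ₜ[A] t)) h7)
    rw [h6, map_smul, map_smul, map_smul]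
    rfl
  have hgb : Function.Bijective g := by
    have h7 : Function.Bijective fun z : Dual.HD B (KB B K) i => b0 • z :=
      hb0.unit.isUnit.smul_bijective
    exact h7.comp (Φ.toLinearEquiv.bijective.comp (((E B).mapIso eA.symm).toLinearEquiv.bijective.comp
      (tH.bijective.comp (exact_baseChange_surj B (homEquiv K i)))))
  rw [← hg] at hgb
  exact (Function.Bijective.of_comp_iff' β₀.bijective _).1 hgb

variable {L M N : Type u} [AddCommGroup L] [Module A L] [AddCommGroup M] [Module A M]
  [AddCommGroup N] [Module A N]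

theorem bT_bijective_congr (e : M ≃ₗ[A] N) (i : ℤ) (h : Function.Bijective (bT B K M i)) :
    Function.Bijective (bT B K N i) := by
  have hb : Function.Bijective ((pre K i e.toLinearMap).baseChange B) := exact_baseChange_surj B (DualCx.congr K i e)
  let e' : EM (A := A) B M ≃ₗ[B] EM (A := A) B N := ((E B).mapIso e.toModuleIso).toLinearEquiv
  have hb' : Function.Bijective (pre (KB B K) i (Ef B e.toLinearMap)) := (DualCx.congr (KB B K) i e').bijective
  have h1 : Function.Bijective (pre (KB B K) i (Ef B e.toLinearMap) ∘ bT B K N i) := by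
    rw [← LinearMap.coe_comp, ← pre_bT]
    exact h.comp hb
  exact (Function.Bijective.of_comp_iff' hb' _).1 h1

/-- the middle of a short exact sequence -/
theorem bT_bijective_mid {f : L →ₗ[A] M} {g : M →ₗ[A] N} (h : SES f g) (i : ℤ)
    (hsplit : ∃ r : M →ₗ[A] L, r.comp f = LinearMap.id)
    (h₁ : Function.Bijective (bT B K L i)) (h₃ : Function.Bijective (bT B K N i)) :
    Function.Bijective (bT B K M i) := by
  obtain ⟨r, hr⟩ := hsplit
  have hs := ses_map B h
  have hr' : ∀ (j : ℤ) (x : T (KB B K) (EM (A := A) B L) j),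
      pre (KB B K) j (Ef B f) (pre (KB B K) j (Ef B r) x) = x := fun j x => by
    rw [← pre_comp, show (Ef B r).comp (Ef B f) = Ef B (r.comp f) by
      rw [← ModuleCat.hom_comp, ← Functor.map_comp]; rfl, hr]
    rw [show Ef B (LinearMap.id : L →ₗ[A] L) = LinearMap.id from
      congrArg ModuleCat.Hom.hom ((E B).map_id (ModuleCat.of A L)), pre_id]
  have hA : ∀ x : T K M i, pre K i f x = 0 → ∃ y, pre K i g y = x := h.exact_mid
  have hex : Function.Exact (pre K i g) (pre K i f) := fun x =>
    ⟨fun hx => hA x hx, by rintro ⟨y, rfl⟩; exact h.pre_f_g y⟩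
  have hexB := exact_map B (pre K i g) (pre K i f) hex
  have hrA : ∀ x : T K L i, pre K i f (pre K i r x) = x := fun x => by rw [← pre_comp, hr, pre_id]
  have hginj : ∀ y : T (KB B K) (EM (A := A) B N) i, pre (KB B K) i (Ef B g) y = 0 → y = 0 := fun y hy => by
    obtain ⟨w, rfl⟩ := hs.exact_right (i := i - 1) (j := i) (by omega) y hy
    rw [← hr' (i - 1) w]
    exact hs.delta_pre _ _
  refine ⟨(injective_iff_map_eq_zero _).2 fun z hz => ?_, fun y => ?_⟩
  · have hz1 : (pre K i f).baseChange B z = 0 := h₁.1 (by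
      rw [← LinearMap.comp_apply, pre_bT, LinearMap.comp_apply, hz, map_zero, map_zero])
    obtain ⟨w, rfl⟩ := (hexB z).1 hz1
    have : bT B K N i w = 0 := hginj _ (by rw [← LinearMap.comp_apply, ← pre_bT]; exact hz)
    rw [h₃.1 (this.trans (map_zero _).symm), map_zero]
  · obtain ⟨a, ha⟩ := h₁.2 (pre (KB B K) i (Ef B f) y)
    have h2 : pre (KB B K) i (Ef B f) (y - bT B K M i ((pre K i r).baseChange B a)) = 0 := by
      rw [map_sub, sub_eq_zero, ← LinearMap.comp_apply, ← pre_bT, LinearMap.comp_apply, ← ha]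
      congr 1
      rw [← LinearMap.comp_apply, ← LinearMap.baseChange_comp, show pre K i f ∘ₗ pre K i r = LinearMap.id from
        LinearMap.ext hrA, LinearMap.baseChange_id, LinearMap.id_apply]
    obtain ⟨w, hw⟩ := hs.exact_mid _ h2
    obtain ⟨b, rfl⟩ := h₃.2 w
    refine ⟨(pre K i g).baseChange B b + (pre K i r).baseChange B a, ?_⟩
    rw [map_add, ← LinearMap.comp_apply, pre_bT, LinearMap.comp_apply, hw, sub_add_cancel]

theorem bT_bijective_pow (i : ℤ) : ∀ n : ℕ, Function.Bijective (bT B K (Fin n → A) i) := by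
  intro n
  induction n with
  | zero =>
    haveI : Subsingleton (T K (Fin 0 → A) i) := subsingleton_of_subsingleton
    haveI : Subsingleton (EM (A := A) B (Fin 0 → A)) := (tens B (Fin 0 → A)).toEquiv.subsingleton
    haveI : Subsingleton (T (KB B K) (EM (A := A) B (Fin 0 → A)) i) := subsingleton_of_subsingleton
    exact ⟨fun a b _ => Subsingleton.elim a b, fun y => ⟨0, Subsingleton.elim _ _⟩⟩
  | succ n ih =>
    refine bT_bijective_congr B K (Fin.consLinearEquiv A (fun _ : Fin (n + 1) => A)) i ?_
    exact bT_bijective_mid B K (f := LinearMap.inl A A (Fin n → A)) (g := LinearMap.snd A A (Fin n → A))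
      ⟨LinearMap.inl_injective, LinearMap.exact_iff.2 (by rw [LinearMap.range_inl]), LinearMap.snd_surjective⟩ i
      ⟨LinearMap.fst A A (Fin n → A), rfl⟩ (bT_bijective_self B K i) ih

theorem bT_bijective [IsNoetherianRing A] {a : ℤ} (hlow : ∀ i : ℤ, i < a → Subsingleton (Dual.HD A K i))
    (M : Type u) [AddCommGroup M] [Module A M] [Module.Finite A M] (i : ℤ) : Function.Bijective (bT B K M i) := by
  suffices H : ∀ (n : ℕ) (M : Type u) [AddCommGroup M] [Module A M] [Module.Finite A M] (i : ℤ), i < a + n →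
      Function.Bijective (bT B K M i) from H (i - a + 1).toNat M i (by omega)
  intro n
  induction n with
  | zero =>
    intro M _ _ _ i hi
    haveI := subsingleton_T_low hlow M (i := i) (by simpa using hi)
    haveI : Subsingleton (T (KB B K) (EM (A := A) B M) i) := subsingleton_T_low (ω := KB B K) (a := a)
      (fun j hj => ModuleCat.subsingleton_of_isZero (isZero_locHD (algebraMap A B) (hlow j hj))) _ (by simpa using hi)
    exact ⟨fun x y _ => Subsingleton.elim x y, fun y => ⟨0, Subsingleton.elim _ _⟩⟩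
  | succ n ih =>
    -- injectivity everywhere, then surjectivity
    have hinj : ∀ (M : Type u) [AddCommGroup M] [Module A M] [Module.Finite A M] (i : ℤ), i < a + (n + 1 : ℕ) →
        Function.Injective (bT B K M i) := by
      intro M _ _ _ i hi
      obtain ⟨m, π, hπ⟩ := Module.Finite.exists_fin' A M
      have h : SES (LinearMap.ker π).subtype π := ⟨Subtype.val_injective, LinearMap.exact_subtype_ker_map π, hπ⟩
      haveI : Module.Finite A (LinearMap.ker π) := Module.Finite.of_fg (IsNoetherian.noetherian _)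
      have hij : i - 1 + 1 = i := by omega
      have hR := ih (LinearMap.ker π) (i - 1) (by push_cast at hi; omega)
      refine (injective_iff_map_eq_zero _).2 fun z hz => ?_
      have h1 : (pre K i π).baseChange B z = 0 := (bT_bijective_pow B K i m).1 (by
        rw [← LinearMap.comp_apply, pre_bT, LinearMap.comp_apply, hz, map_zero, map_zero])
      have hex : Function.Exact (h.delta K hij) (pre K i π) := fun x =>
        ⟨fun hx => h.exact_right hij x hx, by rintro ⟨y, rfl⟩; exact h.pre_delta hij y⟩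
      obtain ⟨w, rfl⟩ := (exact_map B _ _ hex z).1 h1
      have h2 : (ses_map B h).delta (KB B K) hij (bT B K _ (i - 1) w) = 0 := by
        rw [← LinearMap.comp_apply, ← delta_bT]; exact hz
      obtain ⟨y, hy⟩ := (ses_map B h).exact_left hij _ h2
      obtain ⟨y', rfl⟩ := (bT_bijective_pow B K (i - 1) m).2 y
      have h3 : (pre K (i - 1) (LinearMap.ker π).subtype).baseChange B y' = w := hR.1 (by
        rw [← hy, ← LinearMap.comp_apply, pre_bT, LinearMap.comp_apply])
      rw [← h3, ← LinearMap.comp_apply, ← LinearMap.baseChange_comp,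
        show h.delta K hij ∘ₗ pre K (i - 1) (LinearMap.ker π).subtype = 0 from LinearMap.ext (h.delta_pre hij),
        LinearMap.baseChange_zero, LinearMap.zero_apply]
    intro M _ _ _ i hi
    refine ⟨hinj M i hi, fun y => ?_⟩
    obtain ⟨m, π, hπ⟩ := Module.Finite.exists_fin' A M
    have h : SES (LinearMap.ker π).subtype π := ⟨Subtype.val_injective, LinearMap.exact_subtype_ker_map π, hπ⟩
    haveI : Module.Finite A (LinearMap.ker π) := Module.Finite.of_fg (IsNoetherian.noetherian _)
    have hij : i - 1 + 1 = i := by omega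
    have hR := ih (LinearMap.ker π) (i - 1) (by push_cast at hi; omega)
    obtain ⟨x, hx⟩ := (bT_bijective_pow B K i m).2 (pre (KB B K) i (Ef B π) y)
    have h1 : (pre K i (LinearMap.ker π).subtype).baseChange B x = 0 := hinj _ i hi (by
      rw [← LinearMap.comp_apply, pre_bT, LinearMap.comp_apply, hx, (ses_map B h).pre_f_g, map_zero])
    have hex : Function.Exact (pre K i π) (pre K i (LinearMap.ker π).subtype) := fun z =>
      ⟨fun hz => h.exact_mid z hz, by rintro ⟨w, rfl⟩; exact h.pre_f_g w⟩
    obtain ⟨z, hz⟩ := (exact_map B _ _ hex x).1 h1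
    have h2 : pre (KB B K) i (Ef B π) (y - bT B K M i z) = 0 := by
      rw [map_sub, sub_eq_zero, ← hx, ← hz, ← LinearMap.comp_apply, pre_bT, LinearMap.comp_apply]
    obtain ⟨w, hw⟩ := (ses_map B h).exact_right hij _ h2
    obtain ⟨w', rfl⟩ := hR.2 w
    refine ⟨z + (h.delta K hij).baseChange B w', ?_⟩
    rw [map_add, ← LinearMap.comp_apply (bT B K M i) ((h.delta K hij).baseChange B), delta_bT, LinearMap.comp_apply, hw,
      add_sub_cancel]

end

end Groth.Agent.DualFlat
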