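import Groth.Agent.DualCx.LocGlobal
import Mathlib.Algebra.Homology.DerivedCategory.Ext.Map
import Mathlib.CategoryTheory.Localization.Predicate

/-!
Flat base change of `Hom_D(M, K[i])` for finite modules `M`.
-/

set_option autoImplicit false
set_option linter.style.haveILetI false
set_option maxHeartbeats 1000000
universe u

namespace Groth.Agent.DualFlat

open CategoryTheory CategoryTheory.Limits DerivedCategory Pretriangulated TensorProduct
open Groth.Agent.DualCx

attribute [local instance] HasDerivedCategory.standard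

noncomputable section

section Homology

variable {A B : Type u} [CommRing A] [CommRing B] (φ : A →+* B) [PreservesFiniteLimits (DualCx.ext φ)]

/-- homology of termwise base change -/
def ψ (n : ℤ) :
    (DualCx.ext φ).mapHomologicalComplex (ComplexShape.up ℤ) ⋙
        HomologicalComplex.homologyFunctor (ModuleCat.{u} B) (ComplexShape.up ℤ) n ≅
      HomologicalComplex.homologyFunctor (ModuleCat.{u} A) (ComplexShape.up ℤ) n ⋙ DualCx.ext φ :=
  NatIso.ofComponents (fun C => (C.sc n).mapHomologyIso (DualCx.ext φ)) (fun {C C'} f =>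
    ShortComplex.mapHomologyIso_hom_naturality
      ((HomologicalComplex.shortComplexFunctor (ModuleCat.{u} A) (ComplexShape.up ℤ) n).map f) (DualCx.ext φ))

/-- cohomology commutes with flat base change, naturally -/
def θ (n : ℤ) : locD φ ⋙ DerivedCategory.homologyFunctor (ModuleCat.{u} B) n ≅
    DerivedCategory.homologyFunctor (ModuleCat.{u} A) n ⋙ DualCx.ext φ :=
  Localization.liftNatIso DerivedCategory.Q (HomologicalComplex.quasiIso (ModuleCat.{u} A) (ComplexShape.up ℤ))
    (DerivedCategory.Q ⋙ locD φ ⋙ DerivedCategory.homologyFunctor (ModuleCat.{u} B) n)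
    (DerivedCategory.Q ⋙ DerivedCategory.homologyFunctor (ModuleCat.{u} A) n ⋙ DualCx.ext φ) _ _
    ((Functor.associator _ _ _).symm ≪≫
      Functor.isoWhiskerRight (DualCx.ext φ).mapDerivedCategoryFactors _ ≪≫ Functor.associator _ _ _ ≪≫
      Functor.isoWhiskerLeft _ (DerivedCategory.homologyFunctorFactors (ModuleCat.{u} B) n) ≪≫
      ψ φ n ≪≫
      Functor.isoWhiskerRight (DerivedCategory.homologyFunctorFactors (ModuleCat.{u} A) n).symm (DualCx.ext φ) ≪≫
      Functor.associator _ _ _)

theorem θ_naturality {K K' : Dual.D A} (g : K ⟶ K') (n : ℤ) :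
    (DerivedCategory.homologyFunctor (ModuleCat.{u} B) n).map ((locD φ).map g) ≫ (θ φ n).hom.app K' =
      (θ φ n).hom.app K ≫ (DualCx.ext φ).map ((DerivedCategory.homologyFunctor (ModuleCat.{u} A) n).map g) :=
  (θ φ n).hom.naturality g

end Homology

variable {A : Type u} [CommRing A] (B : Type u) [CommRing B] [Algebra A B] [Module.Flat A B]

/-- `B ⊗ -` -/
abbrev E : ModuleCat.{u} A ⥤ ModuleCat.{u} B := DualCx.ext (algebraMap A B)

/-- `B ⊗ M` as a type -/
abbrev EM (M : Type u) [AddCommGroup M] [Module A M] : Type u := ((E B).obj (ModuleCat.of A M) : Type u)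

/-- morphisms in `D(B)` as `A`-modules -/
local instance modA {X Y : Dual.D B} : Module A (X ⟶ Y) := Module.compHom _ (algebraMap A B)

local instance towerA {X Y : Dual.D B} : IsScalarTower A B (X ⟶ Y) :=
  ⟨fun a b x => (congrArg (· • x) (Algebra.smul_def a b)).trans (mul_smul _ _ _)⟩

variable (K : Dual.D A)

/-- `B ⊗ K` -/
abbrev KB : Dual.D B := (locD (algebraMap A B)).obj K

/-- `B ⊗ f` -/
abbrev Ef {M N : Type u} [AddCommGroup M] [Module A M] [AddCommGroup N] [Module A N] (f : M →ₗ[A] N) :
    EM (A := A) B M →ₗ[B] EM (A := A) B N := ((E B).map (ModuleCat.ofHom f)).hom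

/-- base change of `Hom_D(M, K[i])` -/
def tMap (M : Type u) [AddCommGroup M] [Module A M] (i : ℤ) (x : T K M i) : T (KB B K) (EM (A := A) B M) i :=
  (locInD (algebraMap A B) M).inv ≫ ShiftedHom.map x (locD (algebraMap A B))

theorem tMap_add (M : Type u) [AddCommGroup M] [Module A M] (i : ℤ) (x y : T K M i) :
    tMap B K M i (x + y) = tMap B K M i x + tMap B K M i y := by
  simp [tMap, ShiftedHom.map, Functor.map_add, Preadditive.add_comp, Preadditive.comp_add]

theorem tMap_smul (M : Type u) [AddCommGroup M] [Module A M] (i : ℤ) (a : A) (x : T K M i) :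
    tMap B K M i (a • x) = algebraMap A B a • tMap B K M i x := by
  simp only [tMap, ShiftedHom.map]
  rw [locD_smul, Linear.smul_comp, Linear.comp_smul]

/-- base change as an `A`-linear map -/
def tLin (M : Type u) [AddCommGroup M] [Module A M] (i : ℤ) : T K M i →ₗ[A] T (KB B K) (EM (A := A) B M) i where
  toFun x := tMap B K M i x
  map_add' := tMap_add B K M i
  map_smul' := tMap_smul B K M i

/-- the comparison `B ⊗ Hom_D(M, K[i]) → Hom_D(B ⊗ M, (B ⊗ K)[i])` -/
def bT (M : Type u) [AddCommGroup M] [Module A M] (i : ℤ) :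
    B ⊗[A] T K M i →ₗ[B] T (KB B K) (EM (A := A) B M) i :=
  (tLin B K M i).liftBaseChange B

theorem bT_one (M : Type u) [AddCommGroup M] [Module A M] (i : ℤ) (x : T K M i) :
    bT B K M i ((1 : B) ⊗ₜ[A] x) = tMap B K M i x :=
  (LinearMap.liftBaseChange_tmul (A := B) (tLin B K M i) 1 x).trans (one_smul B _)

variable {L M N : Type u} [AddCommGroup L] [Module A L] [AddCommGroup M] [Module A M]
  [AddCommGroup N] [Module A N]

theorem tMap_pre (f : M →ₗ[A] N) (i : ℤ) (x : T K N i) :
    tMap B K M i (pre K i f x) = pre (KB B K) i (Ef B f) (tMap B K N i x) := by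
  simp only [tMap, pre_apply, ShiftedHom.map, Functor.map_comp, Category.assoc]
  have h : (locInD (algebraMap A B) M).inv ≫
      (locD (algebraMap A B)).map ((DerivedCategory.singleFunctor (ModuleCat.{u} A) 0).map (ModuleCat.ofHom f)) =
      (DerivedCategory.singleFunctor (ModuleCat.{u} B) 0).map (ModuleCat.ofHom (Ef B f)) ≫
        (locInD (algebraMap A B) N).inv :=
    (((DualCx.ext (algebraMap A B)).mapDerivedCategorySingleFunctor 0).inv.naturality (ModuleCat.ofHom f)).symm
  exact (Category.assoc _ _ _).symm.trans ((congrArg (· ≫ (locD (algebraMap A B)).map x ≫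
    ((locD (algebraMap A B)).commShiftIso i).hom.app K) h).trans (Category.assoc _ _ _))

theorem pre_bT (f : M →ₗ[A] N) (i : ℤ) :
    bT B K M i ∘ₗ (pre K i f).baseChange B = pre (KB B K) i (Ef B f) ∘ₗ bT B K N i := by
  refine TensorProduct.AlgebraTensorModule.curry_injective (LinearMap.ext_ring (LinearMap.ext fun x => ?_))
  change bT B K M i ((1 : B) ⊗ₜ[A] pre K i f x) = pre (KB B K) i (Ef B f) (bT B K N i ((1 : B) ⊗ₜ[A] x))
  rw [bT_one, bT_one, tMap_pre]

theorem ses_map {f : L →ₗ[A] M} {g : M →ₗ[A] N} (h : SES f g) :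
    SES (Ef B f) (Ef B g) := by
  have hs := h.shortExact.map_of_exact (E (A := A) B)
  exact ⟨(ModuleCat.mono_iff_injective _).1 hs.mono_f,
    (ShortComplex.ShortExact.moduleCat_exact_iff_function_exact _).1 hs.exact,
    (ModuleCat.epi_iff_surjective _).1 hs.epi_g⟩

omit [Module.Flat A B] in
theorem aux_delta {C : Type*} [Category C] (Φ : C ⥤ C) {X Y Z W V P : C} (e : X ≅ Y) (d : Y ⟶ Φ.obj Z) (u : Z ⟶ W)
    (v : W ⟶ V) (w : Φ.obj V ⟶ P) :
    e.inv ≫ (e.hom ≫ d ≫ Φ.map u) ≫ Φ.map v ≫ w = d ≫ Φ.map (u ≫ v) ≫ w := by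
  simp

theorem tMap_delta {f : L →ₗ[A] M} {g : M →ₗ[A] N} (h : SES f g) {i j : ℤ} (hij : i + 1 = j) (x : T K L i) :
    tMap B K N j (h.delta K hij x) = (ses_map B h).delta (KB B K) hij (tMap B K L i x) := by
  have hδ : ShiftedHom.map h.shortExact.singleδ (locD (algebraMap A B)) =
      (locInD (algebraMap A B) N).hom ≫ (ses_map B h).shortExact.singleδ ≫
        (locInD (algebraMap A B) L).inv⟦(1 : ℤ)⟧' :=
    h.shortExact.mapShiftedHom_singleδ (DualCx.ext (algebraMap A B))
  change (locInD (algebraMap A B) N).inv ≫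
      ShiftedHom.map (ShiftedHom.comp h.shortExact.singleδ x hij) (locD (algebraMap A B)) =
    ShiftedHom.comp (ses_map B h).shortExact.singleδ (tMap B K L i x) hij
  rw [ShiftedHom.map_comp, hδ]
  exact aux_delta _ (locInD (algebraMap A B) N) _ _ _ _

theorem delta_bT {f : L →ₗ[A] M} {g : M →ₗ[A] N} (h : SES f g) {i j : ℤ} (hij : i + 1 = j) :
    bT B K N j ∘ₗ (h.delta K hij).baseChange B =
      (ses_map B h).delta (KB B K) hij ∘ₗ bT B K L i := by
  refine TensorProduct.AlgebraTensorModule.curry_injective (LinearMap.ext_ring (LinearMap.ext fun x => ?_))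
  change bT B K N j ((1 : B) ⊗ₜ[A] h.delta K hij x) =
    (ses_map B h).delta (KB B K) hij (bT B K L i ((1 : B) ⊗ₜ[A] x))
  rw [bT_one, bT_one, tMap_delta]

/-- exactness after base change -/
theorem exact_map {X Y Z : Type*} [AddCommGroup X] [Module A X] [AddCommGroup Y] [Module A Y] [AddCommGroup Z]
    [Module A Z] (f : X →ₗ[A] Y) (g : Y →ₗ[A] Z) (h : Function.Exact f g) : Function.Exact (f.baseChange B) (g.baseChange B) :=
  Module.Flat.lTensor_exact B h

end

end Groth.Agent.DualFlat
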