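import Groth.Agent.DualCx.GorCriterion
import Groth.Agent.DualCx.EndK

/-!
A dualizing complex over a local ring with free cohomology is the ring in one degree.
-/

set_option autoImplicit false
set_option linter.style.haveILetI false
set_option maxHeartbeats 1000000
universe u v

namespace Groth.Agent.DualFlat

open CategoryTheory CategoryTheory.Limits DerivedCategory IsLocalRing
open Groth.Agent.DualCx

attribute [local instance] HasDerivedCategory.standard

noncomputable section

variable {C : Type u} [CommRing C] [IsNoetherianRing C] [IsLocalRing C]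

theorem supportDim_eq_of_pi {M : Type v} [AddCommGroup M] [Module C M] {n : ℕ} (e : M ≃ₗ[C] (Fin n → C))
    [Nontrivial M] : Module.supportDim C M = ringKrullDim C := by
  haveI : Module.Free C M := Module.Free.of_equiv e.symm
  haveI : Module.Finite C M := Module.Finite.equiv e.symm
  have h : Module.support C M = Set.univ := by
    refine Set.eq_univ_of_forall fun p => ?_
    have b := Module.Free.chooseBasis C M
    obtain ⟨i⟩ := b.index_nonempty
    rw [Module.mem_support_iff']
    refine ⟨b i, fun r hr h0 => ?_⟩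
    have h1 := congrArg (fun x => b.repr x i) h0
    simp at h1
    exact hr (h1 ▸ zero_mem _)
  rw [Module.supportDim, h, ringKrullDim]
  exact Order.krullDim_eq_of_orderIso OrderIso.Set.univ

omit [IsNoetherianRing C] in
theorem not_two {H : Type u} [AddCommGroup H] [Module C H] {n : ℕ} (e : H ≃ₗ[C] (Fin n → C))
    (h : ∀ f : H →ₗ[C] H, ∃ a : C, f = a • LinearMap.id) (hn : n ≠ 0) : n = 1 := by
  by_contra h1
  let i₀ : Fin n := ⟨0, by omega⟩
  let i₁ : Fin n := ⟨1, by omega⟩
  let P : (Fin n → C) →ₗ[C] (Fin n → C) := (LinearMap.single C (fun _ => C) i₀) ∘ₗ (LinearMap.proj i₀)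
  obtain ⟨a, ha⟩ := h (e.symm.toLinearMap ∘ₗ P ∘ₗ e.toLinearMap)
  have h2 : ∀ x : Fin n → C, P x = a • x := fun x => by
    have h3 := congrArg e (LinearMap.congr_fun ha (e.symm x))
    simpa using h3
  have h4 := congrFun (h2 (Pi.single i₀ 1)) i₀
  have h5 := congrFun (h2 (Pi.single i₁ 1)) i₁
  have hne : i₁ ≠ i₀ := by simp [i₀, i₁, Fin.ext_iff]
  simp [P, hne] at h4 h5
  exact zero_ne_one (h5.trans h4.symm)

/-- A dualizing complex with free cohomology. -/
theorem single_of_free {W : Dual.D C} (hW : Dual.IsDualizing C W) (n : ℤ → ℕ)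
    (he : ∀ i : ℤ, Nonempty (Dual.HD C W i ≃ₗ[C] (Fin (n i) → C))) :
    ∃ e : ℤ, n e = 1 ∧ ∀ i : ℤ, i ≠ e → n i = 0 := by
  obtain ⟨s, hs⟩ := exists_normalized_shift hW
  have hW' := isDualizing_shift hW s
  obtain ⟨d, hd⟩ : ∃ d : ℕ, ringKrullDim C = (d : WithBot ℕ∞) := by
    have h1 := ringKrullDim_ne_top (R := C)
    have h2 := ringKrullDim_ne_bot (R := C)
    generalize ringKrullDim C = x at h1 h2
    induction x with
    | bot => exact absurd rfl h2
    | coe y => induction y with
      | top => exact absurd rfl h1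
      | coe k => exact ⟨k, rfl⟩
  have h0 : ∀ i : ℤ, i ≠ s + -(d : ℤ) → n i = 0 := by
    intro i hi
    by_contra hni
    obtain ⟨ei⟩ := he i
    obtain ⟨es⟩ := nonempty_hd_shift W s (i - s)
    have ei' : Nonempty (Dual.HD C W (s + (i - s)) ≃ₗ[C] (Fin (n i) → C)) := by
      rw [show s + (i - s) = i by lia]; exact ⟨ei⟩
    obtain ⟨ei'⟩ := ei'
    let eT : T (W⟦s⟧) C (i - s) ≃ₗ[C] (Fin (n i) → C) :=
      (homEquiv (W⟦s⟧) (i - s)).trans (es.trans ei')
    haveI : Nonempty (Fin (n i)) := ⟨⟨0, Nat.pos_of_ne_zero hni⟩⟩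
    haveI : Nontrivial (T (W⟦s⟧) C (i - s)) := eT.toEquiv.nontrivial
    have h1 := supportDim_T_le hW' hs (M := C) (i - s)
    rw [supportDim_eq_of_pi eT, hd] at h1
    have h2 : d ≤ (-(i - s)).toNat := by exact_mod_cast h1
    have h3 : ¬ (i - s < -(d : ℤ) ∨ 0 < i - s) := fun h => by
      haveI := subsingleton_hd_outside hW' hs d hd h
      exact not_subsingleton (T (W⟦s⟧) C (i - s)) (homEquiv (W⟦s⟧) (i - s)).toEquiv.subsingleton
    omega
  refine ⟨s + -(d : ℤ), ?_, h0⟩
  generalize hE : s + -(d : ℤ) = E at h0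
  haveI : W.IsGE E := (DerivedCategory.isGE_iff W E).2 fun i hi => by
    obtain ⟨ei⟩ := he i
    haveI : IsEmpty (Fin (n i)) := by rw [h0 i hi.ne]; infer_instance
    haveI : Subsingleton ((DerivedCategory.homologyFunctor (ModuleCat.{u} C) i).obj W) := ei.toEquiv.subsingleton
    exact ModuleCat.isZero_of_subsingleton _
  haveI : W.IsLE E := (DerivedCategory.isLE_iff W E).2 fun i hi => by
    obtain ⟨ei⟩ := he i
    haveI : IsEmpty (Fin (n i)) := by rw [h0 i hi.ne']; infer_instance
    haveI : Subsingleton ((DerivedCategory.homologyFunctor (ModuleCat.{u} C) i).obj W) := ei.toEquiv.subsingleton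
    exact ModuleCat.isZero_of_subsingleton _
  obtain ⟨H, ⟨eX⟩⟩ := DerivedCategory.exists_iso_singleFunctor_obj_of_isGE_of_isLE W E
  obtain ⟨ei⟩ := he E
  let eH : H ≃ₗ[C] (Fin (n E) → C) :=
    ((DerivedCategory.singleFunctorCompHomologyFunctorIso (ModuleCat.{u} C) E).app H).symm.toLinearEquiv.trans
      (((DerivedCategory.homologyFunctor (ModuleCat.{u} C) E).mapIso eX).symm.toLinearEquiv.trans ei)
  refine not_two eH (fun f => ?_) fun hn => ?_
  · let F := DerivedCategory.singleFunctor (ModuleCat.{u} C) E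
    obtain ⟨a, ha⟩ := hW.toEnd_bijective.2 (eX.hom ≫ F.map (ModuleCat.ofHom f) ≫ eX.inv)
    refine ⟨a, ?_⟩
    have h1 : F.map (ModuleCat.ofHom f) = F.map (a • 𝟙 H) := by
      rw [Functor.map_smul, CategoryTheory.Functor.map_id]
      have h2 := congrArg (fun g => eX.inv ≫ g ≫ eX.hom) ha
      simpa using h2.symm
    exact congrArg ModuleCat.Hom.hom (F.map_injective h1)
  · haveI : IsEmpty (Fin (n E)) := by rw [hn]; infer_instance
    haveI : Subsingleton H := eH.toEquiv.subsingleton
    have hz : IsZero W := (Functor.map_isZero _ (ModuleCat.isZero_of_subsingleton H)).of_iso eX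
    exact zero_ne_one (α := C) (hW.toEnd_bijective.1 (hz.eq_of_src _ _))

end

end Groth.Agent.DualFlat
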