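import Groth.Agent.DualFlat.Iso
import Groth.Agent.DualFlat.Free
import Groth.Agent.DualCx.FiniteMap

/-!
The local criterion for flat base change of dualizing complexes.
-/

set_option autoImplicit false
set_option linter.style.haveILetI false
set_option maxHeartbeats 1000000
universe u v

namespace Groth.Agent.DualFlat

open CategoryTheory CategoryTheory.Limits DerivedCategory TensorProduct IsLocalRing
open Groth.Agent.DualCx

attribute [local instance] HasDerivedCategory.standard

noncomputable section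

section RA

variable {B C : Type u} [CommRing B] [CommRing C] [Algebra B C] {W : Dual.D C} {L : Dual.D B}
  {c : (resD B C).obj W ⟶ L}

/-- The adjunction on `Hom_D(M, -)`. -/
theorem nonempty_T_equiv (h : IsRA W L c) (hs : Function.Surjective (algebraMap B C))
    (M : Type u) [AddCommGroup M] [Module B M] [Module C M] [IsScalarTower B C M] (i : ℤ)
    {N : Type v} [AddCommGroup N] [Module B N] [Module C N] [IsScalarTower B C N] (eL : T L M i ≃ₗ[B] N) :
    Nonempty (T W M i ≃ₗ[C] N) := by
  let i0 : ModuleCat.of B M ≅ (res B C).obj (ModuleCat.of C M) :=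
    isoMk (fun x : M => x) (fun x : M => x) (fun _ _ => rfl) (fun b (x : M) => (algebraMap_smul C b x).symm)
      (fun _ => rfl) (fun _ => rfl)
  let e0 : Dual.inD B M ≅ (resD B C).obj (Dual.inD C M) :=
    (DerivedCategory.singleFunctor (ModuleCat.{u} B) 0).mapIso i0 ≪≫
      (((res B C).mapDerivedCategorySingleFunctor 0).app (ModuleCat.of C M)).symm
  let φ : T W M i → T L M i := fun f => e0.hom ≫ raMap c i _ f
  have hφ : Function.Bijective φ :=
    (show Function.Bijective (fun g => e0.hom ≫ g) from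
      ⟨fun _ _ h => (cancel_epi e0.hom).1 h, fun g => ⟨e0.inv ≫ g, e0.hom_inv_id_assoc g⟩⟩).comp
      (h.raMap_bijective i (Dual.inD C M))
  have hadd : ∀ x y, φ (x + y) = φ x + φ y := fun x y => by
    show e0.hom ≫ raMap c i _ (x + y) = _
    rw [raMap_add, Preadditive.comp_add]
  have hsmul : ∀ (b : B) x, φ (algebraMap B C b • x) = b • φ x := fun b x => by
    show e0.hom ≫ raMap c i _ (algebraMap B C b • x) = _
    rw [raMap_smul, Linear.comp_smul]
  let f : T W M i →ₗ[C] N :=
    { toFun := fun x => eL (φ x)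
      map_add' := fun x y => by rw [hadd, map_add]
      map_smul' := fun t x => by
        obtain ⟨b, rfl⟩ := hs t
        rw [hsmul, map_smul, RingHom.id_apply, algebraMap_smul] }
  exact ⟨LinearEquiv.ofBijective f (eL.bijective.comp hφ)⟩

/-- The converse direction. -/
theorem nonempty_T_equiv' (h : IsRA W L c)
    (M : Type u) [AddCommGroup M] [Module B M] [Module C M] [IsScalarTower B C M] (i : ℤ)
    {N : Type v} [AddCommGroup N] [Module B N] [Module C N] [IsScalarTower B C N] (eW : T W M i ≃ₗ[C] N) :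
    Nonempty (T L M i ≃ₗ[B] N) := by
  let i0 : ModuleCat.of B M ≅ (res B C).obj (ModuleCat.of C M) :=
    isoMk (fun x : M => x) (fun x : M => x) (fun _ _ => rfl) (fun b (x : M) => (algebraMap_smul C b x).symm)
      (fun _ => rfl) (fun _ => rfl)
  let e0 : Dual.inD B M ≅ (resD B C).obj (Dual.inD C M) :=
    (DerivedCategory.singleFunctor (ModuleCat.{u} B) 0).mapIso i0 ≪≫
      (((res B C).mapDerivedCategorySingleFunctor 0).app (ModuleCat.of C M)).symm
  let φ : N → T L M i := fun x => e0.hom ≫ raMap c i _ (eW.symm x)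
  have hφ : Function.Bijective φ :=
    ((show Function.Bijective (fun g => e0.hom ≫ g) from
      ⟨fun _ _ h => (cancel_epi e0.hom).1 h, fun g => ⟨e0.inv ≫ g, e0.hom_inv_id_assoc g⟩⟩).comp
      (h.raMap_bijective i (Dual.inD C M))).comp eW.symm.bijective
  let f : N →ₗ[B] T L M i :=
    { toFun := φ
      map_add' := fun x y => by
        show e0.hom ≫ raMap c i _ _ = _
        rw [map_add, raMap_add, Preadditive.comp_add]
      map_smul' := fun b x => by
        show e0.hom ≫ raMap c i _ (eW.symm (b • x)) = _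
        rw [← algebraMap_smul C b x, map_smul, raMap_smul, Linear.comp_smul]
        rfl }
  exact ⟨(LinearEquiv.ofBijective f hφ).symm⟩

end RA

theorem exists_pi {A : Type u} [CommRing A] [IsLocalRing A] {X : Type v} [AddCommGroup X] [Module A X]
    [Module.Finite A X] (h : ∀ a ∈ maximalIdeal A, ∀ x : X, a • x = 0) :
    ∃ n : ℕ, Nonempty (X ≃ₗ[A] (Fin n → A ⧸ maximalIdeal A)) := by
  have hT : Module.IsTorsionBySet A X (maximalIdeal A : Set A) := fun x a => h a a.2 x
  letI : Module (A ⧸ maximalIdeal A) X := hT.module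
  letI : IsScalarTower A (A ⧸ maximalIdeal A) X := hT.isScalarTower
  letI : Field (A ⧸ maximalIdeal A) := Ideal.Quotient.field _
  haveI : Module.Finite (A ⧸ maximalIdeal A) X := Module.Finite.of_restrictScalars_finite A _ X
  exact ⟨_, ⟨(Module.finBasis (A ⧸ maximalIdeal A) X).equivFun.restrictScalars A⟩⟩

section Crit

variable {A : Type u} [CommRing A] [IsNoetherianRing A] [IsLocalRing A]
  (B : Type u) [CommRing B] [Algebra A B] [Module.Flat A B] (K : Dual.D A)

/-- The closed fibre ring. -/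
abbrev Fib : Type u := B ⧸ (maximalIdeal A).map (algebraMap A B)

theorem finite_T_residue (hfin : ∀ i : ℤ, Module.Finite A (Dual.HD A K i)) {a : ℤ}
    (hlow : ∀ i : ℤ, i < a → Subsingleton (Dual.HD A K i)) (i : ℤ) :
    ∃ n : ℕ, Nonempty (T K (A ⧸ maximalIdeal A) i ≃ₗ[A] (Fin n → A ⧸ maximalIdeal A)) := by
  haveI := finite_T_coh hfin hlow (A ⧸ maximalIdeal A) i
  refine exists_pi fun a ha x => smul_eq_zero_of_killed (fun m => ?_) x
  obtain ⟨b, rfl⟩ := Ideal.Quotient.mk_surjective m
  rw [← Ideal.Quotient.mk_eq_mk, ← Submodule.Quotient.mk_smul, Submodule.Quotient.mk_eq_zero]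
  exact Ideal.mul_mem_right _ _ ha

theorem nonempty_T_fib {a : ℤ} (hlow : ∀ i : ℤ, i < a → Subsingleton (Dual.HD A K i)) {i : ℤ} {n : ℕ}
    (e : T K (A ⧸ maximalIdeal A) i ≃ₗ[A] (Fin n → A ⧸ maximalIdeal A)) :
    Nonempty (T (KB B K) (Fib (A := A) B) i ≃ₗ[B] (Fin n → Fib (A := A) B)) := by
  let eC : EM (A := A) B (A ⧸ maximalIdeal A) ≃ₗ[B] Fib (A := A) B :=
    (tens B _).trans (Algebra.TensorProduct.quotIdealMapEquivTensorQuot B (maximalIdeal A)).toLinearEquiv.symm
  let eb : B ⊗[A] T K (A ⧸ maximalIdeal A) i ≃ₗ[B] T (KB B K) (EM (A := A) B (A ⧸ maximalIdeal A)) i :=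
    LinearEquiv.ofBijective _ (bT_bijective B K hlow (A ⧸ maximalIdeal A) i)
  exact ⟨(DualCx.congr (KB B K) i eC).trans (eb.symm.trans ((e.baseChange A B).trans
    ((TensorProduct.piRight A B B (fun _ : Fin n => A ⧸ maximalIdeal A)).trans
      (LinearEquiv.piCongrRight fun _ => (Algebra.TensorProduct.quotIdealMapEquivTensorQuot B (maximalIdeal A)).toLinearEquiv.symm))))⟩

variable [IsNoetherianRing B] [IsLocalRing B] [IsLocalHom (algebraMap A B)]

theorem isDualizing_of_KB (h : Dual.IsDualizing B (KB B K)) : Dual.IsDualizing A K := by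
  haveI := Module.FaithfullyFlat.of_flat_of_isLocalHom (A := A) (B := B)
  let t : ∀ i : ℤ, B ⊗[A] Dual.HD A K i ≃ₗ[B] Dual.HD B (KB B K) i := fun i =>
    (tens B (Dual.HD A K i)).symm.trans (locHD (algebraMap A B) K i).toLinearEquiv.symm
  have hfin : ∀ i : ℤ, Module.Finite A (Dual.HD A K i) := fun i => by
    haveI := h.finite_cohomology i
    haveI : Module.Finite B (B ⊗[A] Dual.HD A K i) := Module.Finite.equiv (t i).symm
    exact Module.Finite.of_finite_tensorProduct_of_faithfullyFlat B
  obtain ⟨a, b, hab⟩ := bounded_of_dualizing h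
  have hlow : ∀ i : ℤ, i < a → Subsingleton (Dual.HD A K i) := fun i hi => by
    haveI := hab i (Or.inl hi)
    haveI : Subsingleton (B ⊗[A] Dual.HD A K i) := (t i).toEquiv.subsingleton
    exact Module.FaithfullyFlat.lTensor_reflects_triviality A B (Dual.HD A K i)
  haveI : Nontrivial (Fib (A := A) B) := Ideal.Quotient.nontrivial_iff.2 fun h1 =>
    (IsLocalRing.maximalIdeal.isMaximal B).ne_top (top_le_iff.1 (h1.ge.trans (Ideal.map_le_iff_le_comap.2 fun x hx =>
      (map_nonunit (algebraMap A B) x hx))))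
  haveI : IsLocalRing (Fib (A := A) B) := IsLocalRing.of_surjective' (Ideal.Quotient.mk _) Ideal.Quotient.mk_surjective
  obtain ⟨R⟩ := nonempty_rep h
  haveI := R.isKInjective
  have hRA := isRA_coJ (B := Fib (A := A) B) R.J R.iso
  have hW := isDualizing_coJ (B := Fib (A := A) B) R h
  choose n e using finite_T_residue K hfin hlow
  have hHD : ∀ i : ℤ, Nonempty (Dual.HD (Fib (A := A) B) (DerivedCategory.Q.obj (coJ (B := Fib (A := A) B) R.J)) i
      ≃ₗ[Fib (A := A) B] (Fin (n i) → Fib (A := A) B)) := fun i => by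
    obtain ⟨eT⟩ := nonempty_T_fib B K hlow (e i).some
    obtain ⟨eW⟩ := nonempty_T_equiv hRA Ideal.Quotient.mk_surjective (Fib (A := A) B) i eT
    exact ⟨(homEquiv _ i).symm.trans eW⟩
  obtain ⟨d, hd1, hd0⟩ := single_of_free hW n hHD
  refine isDualizing_of_residue hfin hlow (d := d) (fun i hi => ?_) ?_
  · haveI : IsEmpty (Fin (n i)) := by rw [hd0 i hi]; infer_instance
    exact (e i).some.toEquiv.subsingleton
  · haveI : Unique (Fin (n d)) := by rw [hd1]; infer_instance
    exact (e d).some.trans (LinearEquiv.funUnique _ A _)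

theorem isDualizing_KB (hK : Dual.IsDualizing A K) (hG : LocCoh.IsGorensteinLocalRing (Fib (A := A) B)) :
    Dual.IsDualizing B (KB B K) := by
  haveI := hG
  obtain ⟨a, b, hab⟩ := bounded_of_dualizing hK
  have hlow : ∀ i : ℤ, i < a → Subsingleton (Dual.HD A K i) := fun i hi => hab i (Or.inl hi)
  have hlowB : ∀ i : ℤ, i < a → Subsingleton (Dual.HD B (KB B K) i) := fun i hi =>
    ModuleCat.subsingleton_of_isZero (isZero_locHD (algebraMap A B) (hlow i hi))
  have hfinB : ∀ i : ℤ, Module.Finite B (Dual.HD B (KB B K) i) := fun i =>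
    finite_locHD (algebraMap A B) (hK.finite_cohomology i)
  haveI : (KB B K).IsGE a := isGE_of_low hlowB
  obtain ⟨J, hJa, hJ, ⟨eJ⟩⟩ := exists_injRep (KB B K) a
  haveI := hJa
  haveI : J.IsKInjective := haveI := hJ; CochainComplex.isKInjective_of_injective J a
  have hRA := isRA_coJ (B := Fib (A := A) B) J eJ
  let W := DerivedCategory.Q.obj (coJ (B := Fib (A := A) B) J)
  obtain ⟨R⟩ := nonempty_rep hK
  obtain ⟨d, hd0, ⟨hd1⟩⟩ := residue_spec hK (maximalIdeal A) R
  obtain ⟨eT⟩ := nonempty_T_fib B K hlow (n := 1) (hd1.trans (LinearEquiv.funUnique (Fin 1) A _).symm)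
  obtain ⟨eW⟩ := nonempty_T_equiv hRA Ideal.Quotient.mk_surjective (Fib (A := A) B) d eT
  have hz : ∀ i : ℤ, i ≠ d → IsZero ((DerivedCategory.homologyFunctor (ModuleCat.{u} (Fib (A := A) B)) i).obj W) :=
    fun i hi => by
    haveI := hd0 i hi
    obtain ⟨eT0⟩ := nonempty_T_fib B K hlow (i := i) (n := 0)
      { toFun := fun _ => 0, invFun := fun _ => 0, map_add' := fun _ _ => (add_zero _).symm,
        map_smul' := fun _ _ => (smul_zero _).symm, left_inv := fun _ => Subsingleton.elim _ _,
        right_inv := fun _ => Subsingleton.elim _ _ }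
    obtain ⟨eW0⟩ := nonempty_T_equiv hRA Ideal.Quotient.mk_surjective (Fib (A := A) B) i eT0
    haveI : Subsingleton ((DerivedCategory.homologyFunctor (ModuleCat.{u} (Fib (A := A) B)) i).obj W) :=
      ((homEquiv W i).symm.trans eW0).toEquiv.subsingleton
    exact ModuleCat.isZero_of_subsingleton _
  haveI : W.IsGE d := (DerivedCategory.isGE_iff W d).2 fun i hi => hz i hi.ne
  haveI : W.IsLE d := (DerivedCategory.isLE_iff W d).2 fun i hi => hz i hi.ne'
  obtain ⟨H, ⟨eX⟩⟩ := DerivedCategory.exists_iso_singleFunctor_obj_of_isGE_of_isLE W d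
  let eH : H ≅ ModuleCat.of (Fib (A := A) B) (Fib (A := A) B) :=
    ((DerivedCategory.singleFunctorCompHomologyFunctorIso (ModuleCat.{u} (Fib (A := A) B)) d).app H).symm ≪≫
      ((DerivedCategory.homologyFunctor (ModuleCat.{u} (Fib (A := A) B)) d).mapIso eX).symm ≪≫
        (((homEquiv W d).symm.trans eW).trans (LinearEquiv.funUnique (Fin 1) _ _)).toModuleIso
  obtain ⟨N, hN⟩ := hG.exists_hasInjectiveDimensionLT
  haveI := hN
  have hs := isDualizing_shift (isDualizing_self (A := Fib (A := A) B) N) (-d)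
  have hW : Dual.IsDualizing (Fib (A := A) B) W := isDualizing_of_iso
    (((DerivedCategory.singleFunctors (ModuleCat.{u} (Fib (A := A) B))).shiftIso (-d) d 0 (by lia)).app _ ≪≫
      (DerivedCategory.singleFunctor (ModuleCat.{u} (Fib (A := A) B)) d).mapIso eH.symm ≪≫ eX.symm) hs
  obtain ⟨R'⟩ := nonempty_rep hW
  obtain ⟨e, he0, ⟨he1⟩⟩ := residue_spec hW (maximalIdeal (Fib (A := A) B)) R'
  let π : B →ₗ[B] Fib (A := A) B ⧸ maximalIdeal (Fib (A := A) B) := Algebra.linearMap B _
  have hπ : Function.Surjective π := fun y => by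
    obtain ⟨x, rfl⟩ := Ideal.Quotient.mk_surjective y
    obtain ⟨z, rfl⟩ := Ideal.Quotient.mk_surjective x
    exact ⟨z, rfl⟩
  have hker : LinearMap.ker π = maximalIdeal B := by
    letI : Field (Fib (A := A) B ⧸ maximalIdeal (Fib (A := A) B)) := Ideal.Quotient.field _
    exact IsLocalRing.eq_maximalIdeal (RingHom.ker_isMaximal_of_surjective
      (algebraMap B (Fib (A := A) B ⧸ maximalIdeal (Fib (A := A) B))) hπ)
  let ek : (B ⧸ maximalIdeal B) ≃ₗ[B] (Fib (A := A) B ⧸ maximalIdeal (Fib (A := A) B)) :=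
    (Submodule.quotEquivOfEq _ _ hker.symm).trans (π.quotKerEquivOfSurjective hπ)
  refine isDualizing_of_residue hfinB hlowB (d := e) (fun i hi => ?_) ?_
  · haveI := he0 i hi
    have h0 : Subsingleton (T (KB B K) (Fib (A := A) B ⧸ maximalIdeal (Fib (A := A) B)) i) := by
      obtain ⟨e'⟩ := nonempty_T_equiv' (N := PUnit.{u + 1}) hRA (Fib (A := A) B ⧸ maximalIdeal (Fib (A := A) B)) i
        { toFun := fun _ => 0, invFun := fun _ => 0, map_add' := fun _ _ => rfl,
          map_smul' := fun _ _ => rfl, left_inv := fun _ => Subsingleton.elim _ _,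
          right_inv := fun _ => Subsingleton.elim _ _ }
      exact e'.toEquiv.subsingleton
    exact (subsingleton_congr ek).2 h0
  · exact ((DualCx.congr (KB B K) e ek).symm.trans
      ((nonempty_T_equiv' hRA (Fib (A := A) B ⧸ maximalIdeal (Fib (A := A) B)) e he1).some)).trans ek.symm

omit [IsLocalHom (algebraMap A B)] in
/-- The closed fibre of a flat map of dualizing complexes is Gorenstein. -/
theorem gorenstein_fib [IsLocalHom (algebraMap A B)] (hK : Dual.IsDualizing A K) (h : Dual.IsDualizing B (KB B K)) :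
    LocCoh.IsGorensteinLocalRing (Fib (A := A) B) := by
  obtain ⟨a, b, hab⟩ := bounded_of_dualizing hK
  have hlow : ∀ i : ℤ, i < a → Subsingleton (Dual.HD A K i) := fun i hi => hab i (Or.inl hi)
  have hfin := hK.finite_cohomology
  haveI : Nontrivial (Fib (A := A) B) := Ideal.Quotient.nontrivial_iff.2 fun h1 =>
    (IsLocalRing.maximalIdeal.isMaximal B).ne_top (top_le_iff.1 (h1.ge.trans (Ideal.map_le_iff_le_comap.2 fun x hx =>
      (map_nonunit (algebraMap A B) x hx))))
  haveI : IsLocalRing (Fib (A := A) B) := IsLocalRing.of_surjective' (Ideal.Quotient.mk _) Ideal.Quotient.mk_surjective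
  obtain ⟨R⟩ := nonempty_rep h
  haveI := R.isKInjective
  have hRA := isRA_coJ (B := Fib (A := A) B) R.J R.iso
  have hW := isDualizing_coJ (B := Fib (A := A) B) R h
  let W := DerivedCategory.Q.obj (coJ (B := Fib (A := A) B) R.J)
  choose n e using finite_T_residue K hfin hlow
  have hHD : ∀ i : ℤ, Nonempty (Dual.HD (Fib (A := A) B) W i
      ≃ₗ[Fib (A := A) B] (Fin (n i) → Fib (A := A) B)) := fun i => by
    obtain ⟨eT⟩ := nonempty_T_fib B K hlow (e i).some
    obtain ⟨eW⟩ := nonempty_T_equiv hRA Ideal.Quotient.mk_surjective (Fib (A := A) B) i eT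
    exact ⟨(homEquiv W i).symm.trans eW⟩
  obtain ⟨d, hd1, hd0⟩ := single_of_free hW n hHD
  have hz : ∀ i : ℤ, i ≠ d → IsZero ((DerivedCategory.homologyFunctor (ModuleCat.{u} (Fib (A := A) B)) i).obj W) :=
    fun i hi => by
    obtain ⟨eW⟩ := hHD i
    haveI : IsEmpty (Fin (n i)) := by rw [hd0 i hi]; infer_instance
    haveI : Subsingleton ((DerivedCategory.homologyFunctor (ModuleCat.{u} (Fib (A := A) B)) i).obj W) :=
      eW.toEquiv.subsingleton
    exact ModuleCat.isZero_of_subsingleton _
  haveI : W.IsGE d := (DerivedCategory.isGE_iff W d).2 fun i hi => hz i hi.ne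
  haveI : W.IsLE d := (DerivedCategory.isLE_iff W d).2 fun i hi => hz i hi.ne'
  obtain ⟨H, ⟨eX⟩⟩ := DerivedCategory.exists_iso_singleFunctor_obj_of_isGE_of_isLE W d
  haveI : Unique (Fin (n d)) := by rw [hd1]; infer_instance
  obtain ⟨eW⟩ := hHD d
  let eH : H ≅ ModuleCat.of (Fib (A := A) B) (Fib (A := A) B) :=
    ((DerivedCategory.singleFunctorCompHomologyFunctorIso (ModuleCat.{u} (Fib (A := A) B)) d).app H).symm ≪≫
      ((DerivedCategory.homologyFunctor (ModuleCat.{u} (Fib (A := A) B)) d).mapIso eX).symm ≪≫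
        (eW.trans (LinearEquiv.funUnique (Fin (n d)) _ _)).toModuleIso
  have hs : Dual.IsDualizing (Fib (A := A) B) (Dual.inD (Fib (A := A) B) (Fib (A := A) B)) :=
    isDualizing_of_iso ((shiftFunctor (Dual.D (Fib (A := A) B)) d).mapIso
        (eX ≪≫ (DerivedCategory.singleFunctor (ModuleCat.{u} (Fib (A := A) B)) d).mapIso eH) ≪≫
      ((DerivedCategory.singleFunctors (ModuleCat.{u} (Fib (A := A) B))).shiftIso d 0 d (by lia)).app _)
      (isDualizing_shift hW d)
  exact { exists_hasInjectiveDimensionLT := exists_hasInjectiveDimensionLT hs }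

/-- Unramified flat base change keeps the residue degrees. -/
theorem isNormalized_KB (hK : Dual.IsDualizing A K) (hn : Dual.IsNormalized A K)
    (hm : (maximalIdeal A).map (algebraMap A B) = maximalIdeal B) : Dual.IsNormalized B (KB B K) := by
  obtain ⟨a, b, hab⟩ := bounded_of_dualizing hK
  intro i hi
  haveI : Subsingleton (T K (A ⧸ maximalIdeal A) i) := hn i hi
  obtain ⟨eT⟩ := nonempty_T_fib B K (fun j hj => hab j (Or.inl hj)) (i := i) (n := 0)
    { toFun := fun _ => 0, invFun := fun _ => 0, map_add' := fun _ _ => (add_zero _).symm,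
      map_smul' := fun _ _ => (smul_zero _).symm, left_inv := fun _ => Subsingleton.elim _ _,
      right_inv := fun _ => Subsingleton.elim _ _ }
  haveI : Subsingleton (T (KB B K) (Fib (A := A) B) i) := eT.toEquiv.subsingleton
  exact (subsingleton_congr (ω := KB B K) (i := i)
    (Submodule.quotEquivOfEq _ _ hm : Fib (A := A) B ≃ₗ[B] B ⧸ maximalIdeal B)).1 inferInstance

end Crit

end

end Groth.Agent.DualFlat
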