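import Groth.Agent.DualFlat.Global
import Groth.Agent.DualCx.Regular

/-!
The residue degree of a flat base change of a dualizing complex.
-/

set_option autoImplicit false
set_option linter.style.haveILetI false
set_option maxHeartbeats 1000000
universe u

namespace Groth.Agent.DualFlat

open CategoryTheory CategoryTheory.Limits DerivedCategory TensorProduct IsLocalRing
open Groth.Agent.DualCx

attribute [local instance] HasDerivedCategory.standard

noncomputable section

variable {A : Type u} [CommRing A] [IsNoetherianRing A] [IsLocalRing A]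
  (B : Type u) [CommRing B] [Algebra A B] [Module.Flat A B] [IsNoetherianRing B] [IsLocalRing B]
  [IsLocalHom (algebraMap A B)] (K : Dual.D A)

/-- The residue degree goes up by the dimension of the closed fibre. -/
theorem residue_degree_KB (hK : Dual.IsDualizing A K) (hn : Dual.IsNormalized A K)
    (hG : LocCoh.IsGorensteinLocalRing (Fib (A := A) B)) {c : ℕ} (hc : ringKrullDim (Fib (A := A) B) = c)
    (i : ℤ) (hi : i ≠ c) : Subsingleton (T (KB B K) (B ⧸ maximalIdeal B) i) := by
  haveI := hG
  obtain ⟨a, b, hab⟩ := bounded_of_dualizing hK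
  have hlow : ∀ i : ℤ, i < a → Subsingleton (Dual.HD A K i) := fun i hi => hab i (Or.inl hi)
  haveI : (KB B K).IsGE a := isGE_of_low fun i hi =>
    ModuleCat.subsingleton_of_isZero (isZero_locHD (algebraMap A B) (hlow i hi))
  obtain ⟨J, hJa, hJ, ⟨eJ⟩⟩ := exists_injRep (KB B K) a
  haveI := hJa
  haveI : J.IsKInjective := haveI := hJ; CochainComplex.isKInjective_of_injective J a
  have hRA := isRA_coJ (B := Fib (A := A) B) J eJ
  let W := DerivedCategory.Q.obj (coJ (B := Fib (A := A) B) J)
  obtain ⟨R⟩ := nonempty_rep hK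
  obtain ⟨d, hd0, ⟨hd1⟩⟩ := residue_spec hK (maximalIdeal A) R
  obtain rfl : d = 0 := by
    by_contra hd
    haveI : Subsingleton (T K (A ⧸ maximalIdeal A) d) := hn d hd
    haveI : Subsingleton (A ⧸ maximalIdeal A) := hd1.symm.toEquiv.subsingleton
    exact not_subsingleton (A ⧸ maximalIdeal A) inferInstance
  obtain ⟨eT⟩ := nonempty_T_fib B K hlow (n := 1) (hd1.trans (LinearEquiv.funUnique (Fin 1) A _).symm)
  obtain ⟨eW⟩ := nonempty_T_equiv hRA Ideal.Quotient.mk_surjective (Fib (A := A) B) (0 : ℤ) eT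
  have hz : ∀ j : ℤ, j ≠ 0 → IsZero ((DerivedCategory.homologyFunctor (ModuleCat.{u} (Fib (A := A) B)) j).obj W) :=
    fun j hj => by
    haveI := hd0 j hj
    obtain ⟨eT0⟩ := nonempty_T_fib B K hlow (i := j) (n := 0)
      { toFun := fun _ => 0, invFun := fun _ => 0, map_add' := fun _ _ => (add_zero _).symm,
        map_smul' := fun _ _ => (smul_zero _).symm, left_inv := fun _ => Subsingleton.elim _ _,
        right_inv := fun _ => Subsingleton.elim _ _ }
    obtain ⟨eW0⟩ := nonempty_T_equiv hRA Ideal.Quotient.mk_surjective (Fib (A := A) B) j eT0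
    haveI : Subsingleton ((DerivedCategory.homologyFunctor (ModuleCat.{u} (Fib (A := A) B)) j).obj W) :=
      ((homEquiv W j).symm.trans eW0).toEquiv.subsingleton
    exact ModuleCat.isZero_of_subsingleton _
  haveI : W.IsGE 0 := (DerivedCategory.isGE_iff W 0).2 fun j hj => hz j hj.ne
  haveI : W.IsLE 0 := (DerivedCategory.isLE_iff W 0).2 fun j hj => hz j hj.ne'
  obtain ⟨H, ⟨eX⟩⟩ := DerivedCategory.exists_iso_singleFunctor_obj_of_isGE_of_isLE W 0
  let eH : H ≅ ModuleCat.of (Fib (A := A) B) (Fib (A := A) B) :=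
    ((DerivedCategory.singleFunctorCompHomologyFunctorIso (ModuleCat.{u} (Fib (A := A) B)) 0).app H).symm ≪≫
      ((DerivedCategory.homologyFunctor (ModuleCat.{u} (Fib (A := A) B)) 0).mapIso eX).symm ≪≫
        (((homEquiv W (0 : ℤ)).symm.trans eW).trans (LinearEquiv.funUnique (Fin 1) _ _)).toModuleIso
  let eW' : W ≅ Dual.inD (Fib (A := A) B) (Fib (A := A) B) :=
    eX ≪≫ (DerivedCategory.singleFunctor (ModuleCat.{u} (Fib (A := A) B)) 0).mapIso eH
  obtain ⟨N, hN⟩ := hG.exists_hasInjectiveDimensionLT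
  haveI := hN
  have hnorm := self_degree (isDualizing_self (A := Fib (A := A) B) N) hc
  have h0 : Subsingleton (T W (Fib (A := A) B ⧸ maximalIdeal (Fib (A := A) B)) i) := by
    refine (Iso.homCongr (Iso.refl _) ((shiftFunctor _ i).mapIso eW')).subsingleton_congr.2 ?_
    refine (Iso.homCongr (Iso.refl _) ((shiftFunctorAdd' (Dual.D (Fib (A := A) B)) (c : ℤ) (i - c) i (by lia)).app
      (Dual.inD (Fib (A := A) B) (Fib (A := A) B)))).subsingleton_congr.2 ?_
    exact hnorm (i - c) (by lia)
  let π : B →ₗ[B] Fib (A := A) B ⧸ maximalIdeal (Fib (A := A) B) := Algebra.linearMap B _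
  have hπ : Function.Surjective π := fun y => by
    obtain ⟨x, rfl⟩ := Ideal.Quotient.mk_surjective y
    obtain ⟨z, rfl⟩ := Ideal.Quotient.mk_surjective x
    exact ⟨z, rfl⟩
  have hker : LinearMap.ker π = maximalIdeal B := by
    letI : Field (Fib (A := A) B ⧸ maximalIdeal (Fib (A := A) B)) := Ideal.Quotient.field _
    exact IsLocalRing.eq_maximalIdeal (RingHom.ker_isMaximal_of_surjective
      (algebraMap B (Fib (A := A) B ⧸ maximalIdeal (Fib (A := A) B))) hπ)
  let ek : (B ⧸ maximalIdeal B) ≃ₗ[B] (Fib (A := A) B ⧸ maximalIdeal (Fib (A := A) B)) :=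
    (Submodule.quotEquivOfEq _ _ hker.symm).trans (π.quotKerEquivOfSurjective hπ)
  haveI := h0
  obtain ⟨e'⟩ := nonempty_T_equiv' (N := PUnit.{u + 1}) hRA (Fib (A := A) B ⧸ maximalIdeal (Fib (A := A) B)) i
    { toFun := fun _ => 0, invFun := fun _ => 0, map_add' := fun _ _ => rfl,
      map_smul' := fun _ _ => rfl, left_inv := fun _ => Subsingleton.elim _ _,
      right_inv := fun _ => Subsingleton.elim _ _ }
  exact (subsingleton_congr ek).2 e'.toEquiv.subsingleton

end

end Groth.Agent.DualFlat
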