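import Groth.Agent.DualFlat.Crit
import Groth.Agent.DualCx.LocalizePrime
import Groth.Agent.DualCx.Dim
import Groth.Agent.DRingKP.Derive

/-!
Flat base change of dualizing complexes.
-/

set_option autoImplicit false
set_option linter.style.haveILetI false
set_option maxHeartbeats 1000000
universe u v

namespace Groth.Agent.DualFlat

open CategoryTheory CategoryTheory.Limits DerivedCategory TensorProduct IsLocalRing
open Groth.Agent.DualCx

attribute [local instance] HasDerivedCategory.standard

noncomputable section

section Comp

variable {A B C : Type u} [CommRing A] [CommRing B] [CommRing C] (φ : A →+* B) (ψ : B →+* C) (χ : A →+* C)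
  [PreservesFiniteLimits (DualCx.ext φ)] [PreservesFiniteLimits (DualCx.ext ψ)] [PreservesFiniteLimits (DualCx.ext χ)]

/-- Two base changes in a row. -/
theorem nonempty_locD_comp (h : ψ.comp φ = χ) (K : Dual.D A) :
    Nonempty ((locD ψ).obj ((locD φ).obj K) ≅ (locD χ).obj K) := by
  subst h
  let C₀ := DerivedCategory.Q.objPreimage K
  let e := DerivedCategory.Q.objObjPreimageIso K
  exact ⟨(locD ψ).mapIso ((locD φ).mapIso e.symm ≪≫ locQ φ C₀) ≪≫ locQ ψ _ ≪≫
    DerivedCategory.Q.mapIso ((NatIso.mapHomologicalComplex (ModuleCat.extendScalarsComp φ ψ) _).app C₀).symm ≪≫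
    (locQ (ψ.comp φ) C₀).symm ≪≫ (locD (ψ.comp φ)).mapIso e⟩

end Comp

variable {A : Type u} [CommRing A] [IsNoetherianRing A]
  (B : Type u) [CommRing B] [Algebra A B] [Module.Flat A B] [IsNoetherianRing B] (K : Dual.D A)

/-- The data at a prime upstairs. -/
theorem exists_local (n : Ideal B) [n.IsPrime] :
    ∃ (_ : Algebra (Localization.AtPrime (n.comap (algebraMap A B))) (Localization.AtPrime n))
      (_ : Module.Flat (Localization.AtPrime (n.comap (algebraMap A B))) (Localization.AtPrime n))
      (_ : IsLocalHom (algebraMap (Localization.AtPrime (n.comap (algebraMap A B))) (Localization.AtPrime n))),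
      IsScalarTower A (Localization.AtPrime (n.comap (algebraMap A B))) (Localization.AtPrime n) ∧
      Nonempty (KB (Localization.AtPrime n) ((locD (algebraMap A (Localization.AtPrime (n.comap (algebraMap A B))))).obj K) ≅
        (locD (algebraMap B (Localization.AtPrime n))).obj (KB B K)) := by
  let f := Localization.localRingHom (n.comap (algebraMap A B)) n (algebraMap A B) rfl
  letI : Algebra (Localization.AtPrime (n.comap (algebraMap A B))) (Localization.AtPrime n) := f.toAlgebra
  haveI ht : IsScalarTower A (Localization.AtPrime (n.comap (algebraMap A B))) (Localization.AtPrime n) :=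
    IsScalarTower.of_algebraMap_eq fun x => by
      show _ = f _
      rw [Localization.localRingHom_to_map]
      exact IsScalarTower.algebraMap_apply A B (Localization.AtPrime n) x
  haveI : Module.Flat B (Localization.AtPrime n) := IsLocalization.flat _ n.primeCompl
  haveI : Module.Flat A (Localization.AtPrime (n.comap (algebraMap A B))) := IsLocalization.flat _ (n.comap (algebraMap A B)).primeCompl
  haveI : Module.Flat A (Localization.AtPrime n) := Module.Flat.trans A B _
  haveI : Module.Flat (Localization.AtPrime (n.comap (algebraMap A B))) (Localization.AtPrime n) :=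
    (Module.flat_iff_of_isLocalization (Localization.AtPrime (n.comap (algebraMap A B))) (n.comap (algebraMap A B)).primeCompl
      (Localization.AtPrime n)).2 inferInstance
  refine ⟨inferInstance, inferInstance, Localization.isLocalHom_localRingHom _ _ _ rfl, ht, ?_⟩
  obtain ⟨e1⟩ := nonempty_locD_comp (algebraMap A (Localization.AtPrime (n.comap (algebraMap A B))))
    (algebraMap (Localization.AtPrime (n.comap (algebraMap A B))) (Localization.AtPrime n))
    (algebraMap A (Localization.AtPrime n)) (IsScalarTower.algebraMap_eq _ _ _).symm K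
  obtain ⟨e2⟩ := nonempty_locD_comp (algebraMap A B) (algebraMap B (Localization.AtPrime n))
    (algebraMap A (Localization.AtPrime n)) (IsScalarTower.algebraMap_eq _ _ _).symm K
  exact ⟨e1 ≪≫ e2.symm⟩

/-- Descent. -/
theorem isDualizing_descent [Module.FaithfullyFlat A B] (h : Dual.IsDualizing B (KB B K)) : Dual.IsDualizing A K := by
  let t : ∀ i : ℤ, B ⊗[A] Dual.HD A K i ≃ₗ[B] Dual.HD B (KB B K) i := fun i =>
    (tens B (Dual.HD A K i)).symm.trans (locHD (algebraMap A B) K i).toLinearEquiv.symm
  have hfin : ∀ i : ℤ, Module.Finite A (Dual.HD A K i) := fun i => by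
    haveI := h.finite_cohomology i
    haveI : Module.Finite B (B ⊗[A] Dual.HD A K i) := Module.Finite.equiv (t i).symm
    exact Module.Finite.of_finite_tensorProduct_of_faithfullyFlat B
  obtain ⟨a₀, b₀, hab₀⟩ := bounded_of_dualizing h
  have hz : ∀ i : ℤ, (i < a₀ ∨ b₀ < i) → Subsingleton (Dual.HD A K i) := fun i hi => by
    haveI := hab₀ i hi
    haveI : Subsingleton (B ⊗[A] Dual.HD A K i) := (t i).toEquiv.subsingleton
    exact Module.FaithfullyFlat.lTensor_reflects_triviality A B (Dual.HD A K i)
  obtain ⟨a, b, hab⟩ := h.finite_injective_dimension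
  have hamp : DRing.HasInjAmplitudeIn A a b K := (DRingKP.injAmp_iff K a b).2 fun I i hi => by
    haveI : Subsingleton (T (KB B K) (EM (A := A) B (A ⧸ I)) i) := hab _ i hi
    haveI : Subsingleton (B ⊗[A] T K (A ⧸ I) i) :=
      (Equiv.ofBijective _ (bT_bijective B K (fun j hj => hz j (Or.inl hj)) (A ⧸ I) i)).subsingleton
    exact Module.FaithfullyFlat.lTensor_reflects_triviality A B (T K (A ⧸ I) i)
  obtain ⟨hle, hge⟩ := isLE_isGE_of_bounded hz
  refine isDualizing_of_local hfin b₀ a₀
    ⟨a, b, fun M _ _ i hi => DRingKP.ext_eq_zero_of_amp hamp (ModuleCat.of A M) i hi⟩ fun m hm => ?_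
  obtain ⟨n, hn⟩ : ∃ n : Ideal B, n.IsMaximal ∧ m.map (algebraMap A B) ≤ n :=
    Ideal.exists_le_maximal _ (fun ht => hm.ne_top (by
      rw [← Ideal.comap_map_eq_self_of_faithfullyFlat (B := B) m, ht, Ideal.comap_top]))
  haveI := hn.1
  have hcomap : n.comap (algebraMap A B) = m :=
    (hm.eq_of_le (Ideal.comap_ne_top _ hn.1.ne_top) (Ideal.map_le_iff_le_comap.1 hn.2)).symm
  subst hcomap
  refine ⟨(n.comap (algebraMap A B)).primeCompl, fun s hs => hs, ?_⟩
  obtain ⟨hA, hF, hL, -, ⟨e⟩⟩ := exists_local B K n
  letI := hA
  haveI := hF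
  haveI := hL
  haveI : Module.Flat B (Localization.AtPrime n) := IsLocalization.flat _ n.primeCompl
  exact isDualizing_of_KB (Localization.AtPrime n) _
    (DualCx.isDualizing_of_iso e.symm (isDualizing_locD _ n.primeCompl h))

/-- Gorenstein closed fibres at maximal ideals. -/
def GorFibres : Prop :=
  ∀ (n : Ideal B) [n.IsMaximal],
    LocCoh.IsGorensteinLocalRing (Localization.AtPrime n ⧸
      (n.comap (algebraMap A B)).map (algebraMap A (Localization.AtPrime n)))

/-- Ascent. -/
theorem isDualizing_ascent (hdim : ringKrullDim B < ⊤) (hG : GorFibres (A := A) B)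
    (hK : Dual.IsDualizing A K) : Dual.IsDualizing B (KB B K) := by
  refine Loc.isDualizing_of_forall_prime hdim (KB B K) (fun i => finite_locHD _ (hK.finite_cohomology i)) fun p => ?_
  haveI := DRingKP.hasLBaseChange (algebraMap B (Localization.AtPrime p.asIdeal))
  refine ⟨inferInstance, ?_⟩
  obtain ⟨n, hn, hpn⟩ := Ideal.exists_le_maximal p.asIdeal p.isPrime.ne_top
  haveI := hn
  obtain ⟨hA, hF, hL, ht, ⟨e⟩⟩ := exists_local B K n
  letI := hA
  haveI := hF
  haveI := hL
  haveI := ht
  haveI : Module.Flat A (Localization.AtPrime (n.comap (algebraMap A B))) := IsLocalization.flat _ (n.comap (algebraMap A B)).primeCompl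
  have hKP := isDualizing_locD (algebraMap A (Localization.AtPrime (n.comap (algebraMap A B))))
    (n.comap (algebraMap A B)).primeCompl hK
  have hfib : (maximalIdeal (Localization.AtPrime (n.comap (algebraMap A B)))).map
      (algebraMap (Localization.AtPrime (n.comap (algebraMap A B))) (Localization.AtPrime n)) =
      (n.comap (algebraMap A B)).map (algebraMap A (Localization.AtPrime n)) := by
    rw [← Localization.AtPrime.map_eq_maximalIdeal, Ideal.map_map, ← IsScalarTower.algebraMap_eq]
  have hn' : LocCoh.IsGorensteinLocalRing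
      (Fib (A := Localization.AtPrime (n.comap (algebraMap A B))) (Localization.AtPrime n)) := by
    show LocCoh.IsGorensteinLocalRing (_ ⧸ _)
    rw [hfib]
    exact hG n
  haveI : Module.Flat B (Localization.AtPrime n) := IsLocalization.flat _ n.primeCompl
  haveI : Module.Flat B (Localization.AtPrime p.asIdeal) := IsLocalization.flat _ p.asIdeal.primeCompl
  have hle : n.primeCompl ≤ p.asIdeal.primeCompl := fun x hx hxp => hx (hpn hxp)
  letI : Algebra (Localization.AtPrime n) (Localization.AtPrime p.asIdeal) :=
    IsLocalization.localizationAlgebraOfSubmonoidLe _ _ n.primeCompl p.asIdeal.primeCompl hle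
  haveI : IsScalarTower B (Localization.AtPrime n) (Localization.AtPrime p.asIdeal) :=
    IsLocalization.localization_isScalarTower_of_submonoid_le _ _ n.primeCompl p.asIdeal.primeCompl hle
  haveI hl : IsLocalization (p.asIdeal.primeCompl.map (algebraMap B (Localization.AtPrime n))) (Localization.AtPrime p.asIdeal) :=
    IsLocalization.isLocalization_of_submonoid_le _ _ n.primeCompl p.asIdeal.primeCompl hle
  haveI : Module.Flat (Localization.AtPrime n) (Localization.AtPrime p.asIdeal) :=
    IsLocalization.flat _ (p.asIdeal.primeCompl.map (algebraMap B (Localization.AtPrime n)))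
  obtain ⟨e2⟩ := nonempty_locD_comp (algebraMap B (Localization.AtPrime n))
    (algebraMap (Localization.AtPrime n) (Localization.AtPrime p.asIdeal))
    (algebraMap B (Localization.AtPrime p.asIdeal)) (IsScalarTower.algebraMap_eq _ _ _).symm (KB B K)
  exact DualCx.isDualizing_of_iso (e2 ≪≫ (lBaseChangeObjIso _ _).symm)
    (isDualizing_locD _ (p.asIdeal.primeCompl.map (algebraMap B (Localization.AtPrime n)))
      (DualCx.isDualizing_of_iso e (isDualizing_KB (Localization.AtPrime n) _ hKP hn')))

/-- Fibres of a flat map between dualizing complexes are Gorenstein. -/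
theorem gorenstein_fibLocRing (hK : Dual.IsDualizing A K) (h : Dual.IsDualizing B (KB B K)) (n : Ideal B) [n.IsPrime] :
    LocCoh.IsGorensteinLocalRing (Localization.AtPrime n ⧸
      (n.comap (algebraMap A B)).map (algebraMap A (Localization.AtPrime n))) := by
  obtain ⟨hA, hF, hL, ht, ⟨e⟩⟩ := exists_local B K n
  letI := hA
  haveI := hF
  haveI := hL
  haveI := ht
  haveI : Module.Flat A (Localization.AtPrime (n.comap (algebraMap A B))) := IsLocalization.flat _ (n.comap (algebraMap A B)).primeCompl
  haveI : Module.Flat B (Localization.AtPrime n) := IsLocalization.flat _ n.primeCompl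
  have hfib : (maximalIdeal (Localization.AtPrime (n.comap (algebraMap A B)))).map
      (algebraMap (Localization.AtPrime (n.comap (algebraMap A B))) (Localization.AtPrime n)) =
      (n.comap (algebraMap A B)).map (algebraMap A (Localization.AtPrime n)) := by
    rw [← Localization.AtPrime.map_eq_maximalIdeal, Ideal.map_map, ← IsScalarTower.algebraMap_eq]
  have hn' : LocCoh.IsGorensteinLocalRing
      (Localization.AtPrime n ⧸ (maximalIdeal (Localization.AtPrime (n.comap (algebraMap A B)))).map
        (algebraMap (Localization.AtPrime (n.comap (algebraMap A B))) (Localization.AtPrime n))) :=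
    gorenstein_fib (Localization.AtPrime n) _
      (isDualizing_locD (algebraMap A (Localization.AtPrime (n.comap (algebraMap A B))))
        (n.comap (algebraMap A B)).primeCompl hK)
      (DualCx.isDualizing_of_iso e.symm (isDualizing_locD _ n.primeCompl h))
  rw [hfib] at hn'
  exact hn'

end

end Groth.Agent.DualFlat
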