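import Groth.Agent.DRingKP.TorMore
import Groth.Agent.DualCx.LocD
import Groth.Agent.DualCx.Regular
import Mathlib.RingTheory.PicardGroup
import Mathlib.CategoryTheory.Monoidal.Linear
import Mathlib.Algebra.Category.ModuleCat.Monoidal.Basic

/-!
Twisting a dualizing complex by an invertible module.
-/

set_option autoImplicit false
set_option linter.style.haveILetI false
set_option maxHeartbeats 1000000
universe u

namespace Groth.Agent.DualFlat

open CategoryTheory CategoryTheory.Limits DerivedCategory MonoidalCategory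
open Groth.Agent.DualCx

attribute [local instance] HasDerivedCategory.standard

noncomputable section

section General

variable {A : Type u} [CommRing A] (e : ModuleCat.{u} A ≌ ModuleCat.{u} A)
  [e.functor.Additive] [e.inverse.Additive] [e.functor.Linear A]

/-- `S ∘ T = id` on the derived category. -/
def mapDIso (T S : ModuleCat.{u} A ⥤ ModuleCat.{u} A) [T.Additive] [S.Additive] [PreservesFiniteLimits T]
    [PreservesFiniteColimits T] [PreservesFiniteLimits S] [PreservesFiniteColimits S] (i : T ⋙ S ≅ 𝟭 _) :
    T.mapDerivedCategory ⋙ S.mapDerivedCategory ≅ 𝟭 (Dual.D A) :=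
  Localization.liftNatIso DerivedCategory.Q (HomologicalComplex.quasiIso (ModuleCat.{u} A) (ComplexShape.up ℤ))
    (DerivedCategory.Q ⋙ T.mapDerivedCategory ⋙ S.mapDerivedCategory) (DerivedCategory.Q ⋙ 𝟭 (Dual.D A)) _ _
    ((Functor.associator _ _ _).symm ≪≫ Functor.isoWhiskerRight T.mapDerivedCategoryFactors _ ≪≫
      Functor.associator _ _ _ ≪≫ Functor.isoWhiskerLeft _ S.mapDerivedCategoryFactors ≪≫
      (Functor.associator _ _ _).symm ≪≫
      Functor.isoWhiskerRight (NatIso.mapHomologicalComplex i (ComplexShape.up ℤ) ≪≫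
        Functor.mapHomologicalComplexIdIso _ _) DerivedCategory.Q ≪≫
      Functor.leftUnitor _ ≪≫ (Functor.rightUnitor _).symm)

/-- An autoequivalence on derived categories. -/
def mapDEquiv : Dual.D A ≌ Dual.D A :=
  CategoryTheory.Equivalence.mk e.functor.mapDerivedCategory e.inverse.mapDerivedCategory
    (mapDIso e.functor e.inverse e.unitIso.symm).symm (mapDIso e.inverse e.functor e.counitIso)

/-- Homology commutes with an exact functor. -/
theorem nonempty_hd_map (ω : Dual.D A) (i : ℤ) :
    Nonempty (Dual.HD A (e.functor.mapDerivedCategory.obj ω) i ≃ₗ[A]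
      (e.functor.obj ((DerivedCategory.homologyFunctor (ModuleCat.{u} A) i).obj ω) : Type u)) := by
  let C := DerivedCategory.Q.objPreimage ω
  let eC := DerivedCategory.Q.objObjPreimageIso ω
  exact ⟨((DerivedCategory.homologyFunctor (ModuleCat.{u} A) i).mapIso
      (e.functor.mapDerivedCategory.mapIso eC.symm ≪≫ e.functor.mapDerivedCategoryFactors.app C) ≪≫
    (DerivedCategory.homologyFunctorFactors (ModuleCat.{u} A) i).app _ ≪≫
    (C.sc i).mapHomologyIso e.functor ≪≫
    e.functor.mapIso (((DerivedCategory.homologyFunctorFactors (ModuleCat.{u} A) i).app C).symm ≪≫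
      (DerivedCategory.homologyFunctor (ModuleCat.{u} A) i).mapIso eC)).toLinearEquiv⟩

theorem isDualizing_map (hfin : ∀ N : ModuleCat.{u} A, Module.Finite A N → Module.Finite A (e.functor.obj N))
    {ω : Dual.D A} (hω : Dual.IsDualizing A ω) : Dual.IsDualizing A (e.functor.mapDerivedCategory.obj ω) := by
  haveI : e.functor.mapDerivedCategory.IsEquivalence := (mapDEquiv e).isEquivalence_functor
  let F := e.functor.mapDerivedCategory
  have hF : ∀ X Y : Dual.D A, Function.Bijective (F.map : (X ⟶ Y) → _) := fun X Y =>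
    ⟨F.map_injective, F.map_surjective⟩
  refine ⟨hω.isNoetherianRing, ?_, fun i => ?_, ?_, fun i hi => ?_⟩
  · obtain ⟨a, b, hab⟩ := hω.finite_injective_dimension
    refine ⟨a, b, fun M _ _ i hi => ?_⟩
    let M₀ : ModuleCat.{u} A := e.inverse.obj (ModuleCat.of A M)
    let j : F.obj (Dual.inD A M₀) ≅ Dual.inD A M :=
      (e.functor.mapDerivedCategorySingleFunctor 0).app M₀ ≪≫
        (DerivedCategory.singleFunctor (ModuleCat.{u} A) 0).mapIso (e.counitIso.app (ModuleCat.of A M))
    have h1 : Subsingleton (Dual.inD A M₀ ⟶ ω⟦i⟧) := hab M₀ i hi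
    have h2 : Subsingleton (F.obj (Dual.inD A M₀) ⟶ F.obj (ω⟦i⟧)) := (hF _ _).2.subsingleton
    exact (Iso.homCongr j ((F.commShiftIso i).app ω)).subsingleton_congr.1 h2
  · obtain ⟨t⟩ := nonempty_hd_map e ω i
    haveI := hfin ((DerivedCategory.homologyFunctor (ModuleCat.{u} A) i).obj ω) (hω.finite_cohomology i)
    exact Module.Finite.equiv t.symm
  · have h : (fun a : A => a • 𝟙 (F.obj ω)) = F.map ∘ fun a : A => a • 𝟙 ω := funext fun a => by
      rw [Function.comp_apply, Functor.map_smul, CategoryTheory.Functor.map_id]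
    exact h ▸ (hF ω ω).comp hω.toEnd_bijective
  · haveI := hω.ext_self_subsingleton i hi
    have h2 : Subsingleton (F.obj ω ⟶ F.obj (ω⟦i⟧)) := (hF _ _).2.subsingleton
    exact (Iso.homCongr (Iso.refl _) ((F.commShiftIso i).app ω)).subsingleton_congr.1 h2

end General

variable (A : Type u) [CommRing A] (P : Type u) [AddCommGroup P] [Module A P] [Module.Invertible A P]

/-- the dual times the module is the ring -/
def dualIso : ModuleCat.of A (Module.Dual A P) ⊗ ModuleCat.of A P ≅ 𝟙_ (ModuleCat.{u} A) :=
  (Module.Invertible.linearEquiv A P).toModuleIso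

/-- `- ⊗ P` as an autoequivalence -/
def twist : ModuleCat.{u} A ≌ ModuleCat.{u} A :=
  CategoryTheory.Equivalence.mk (tensorRight (ModuleCat.of A P)) (tensorRight (ModuleCat.of A (Module.Dual A P)))
    (((tensorRightTensor (ModuleCat.of A P) (ModuleCat.of A (Module.Dual A P))).symm ≪≫
      (tensoringRight (ModuleCat.{u} A)).mapIso ((β_ _ _) ≪≫ dualIso A P) ≪≫ rightUnitorNatIso _).symm)
    ((tensorRightTensor (ModuleCat.of A (Module.Dual A P)) (ModuleCat.of A P)).symm ≪≫
      (tensoringRight (ModuleCat.{u} A)).mapIso (dualIso A P) ≪≫ rightUnitorNatIso _)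

instance : (twist A P).functor.Additive := inferInstanceAs (tensorRight (ModuleCat.of A P)).Additive

instance : (twist A P).inverse.Additive := inferInstanceAs (tensorRight (ModuleCat.of A (Module.Dual A P))).Additive

instance : (twist A P).functor.Linear A := inferInstanceAs ((tensorRight (ModuleCat.of A P)).Linear A)

theorem isDualizing_tensor {ω : Dual.D A} (hω : Dual.IsDualizing A ω) :
    Dual.IsDualizing A ((twist A P).functor.mapDerivedCategory.obj ω) := by
  refine isDualizing_map (twist A P) (fun N hN => ?_) hω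
  haveI := hN
  exact Module.Finite.tensorProduct A N P

theorem nonempty_iso_mapDerived [DRing.HasLTensor A (ModuleCat.of A P)] (K : Dual.D A) :
    Nonempty ((twist A P).functor.mapDerivedCategory.obj K ≅ (DRing.LTensor A (ModuleCat.of A P)).obj K) := by
  obtain ⟨C, f, hf1, hf2⟩ := DRingKP.exists_kProj_resolution (DerivedCategory.Q.objPreimage K)
  haveI := hf1
  haveI := hf2
  let eK : DRing.toD C ≅ K := asIso (DerivedCategory.Q.map f) ≪≫ DerivedCategory.Q.objObjPreimageIso K
  exact ⟨(twist A P).functor.mapDerivedCategory.mapIso eK.symm ≪≫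
    (twist A P).functor.mapDerivedCategoryFactors.app C ≪≫
    (DRingKP.lTensorIso (ModuleCat.of A P) C).symm ≪≫ (DRing.LTensor A (ModuleCat.of A P)).mapIso eK⟩

end

end Groth.Agent.DualFlat
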